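import Cfsg.Agent.Lib.Invol.CIT.Basic
import Cfsg.Agent.Lib.KnownB.PSL2Elem
import Cfsg.Agent.Lib.Classical.PSLTwoPerm
import Cfsg.Agent.Lib.Suzuki.Model
import Cfsg.Agent.Lib.Suzuki.Centralizer

/-!
The prime graphs of `PSL(2, 2^m)` and `Sz(q)`: the orders and the missing edges.
-/

set_option autoImplicit false
set_option linter.unusedSectionVars false
set_option linter.style.haveILetI false

namespace CfsgLib.Recog.CITGraph

open Matrix

section PSL

variable {F : Type*} [Field F] [Fintype F] {m : ℕ}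

local notation "PS" => Matrix.ProjectiveSpecialLinearGroup (Fin 2) F

theorem gcd_two_pred (hm : 1 ≤ m) : Nat.gcd 2 (2 ^ m - 1) = 1 := by
  refine Nat.coprime_two_left.2 (Nat.odd_iff.2 ?_)
  obtain ⟨c, hc⟩ : 2 ∣ 2 ^ m := dvd_pow_self 2 (by omega)
  have := Nat.one_le_two_pow (n := m)
  omega

theorem card_psl_even (hm : 1 ≤ m) (hF : Fintype.card F = 2 ^ m) :
    Nat.card PS = 2 ^ m * (2 ^ (2 * m) - 1) := by
  refine CfsgLib.Classical.card_psl_two_eq hF _ ?_
  rw [gcd_two_pred hm, one_mul, ← pow_mul, mul_comm m 2]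

/-- An element whose order is a product of two primes puts both on one torus. -/
theorem edge_psl_even (hm : 1 ≤ m) (hF : Fintype.card F = 2 ^ m) {a b : ℕ} (ha : a.Prime)
    (hb : b.Prime) {x : PS} (hx : orderOf x = a * b) :
    a * b ∣ 2 ^ m - 1 ∨ a * b ∣ 2 ^ m + 1 := by
  haveI := Fact.mk Nat.prime_two
  haveI : CharP F 2 := charP_of_card_eq_prime_pow hF
  have h := CfsgLib.KnownB.SL2.orderOf_psl_cases 2 x
  rw [hF, gcd_two_pred hm, Nat.div_one, Nat.div_one, hx] at h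
  refine h.resolve_left fun h2 => ?_
  have h4 : 2 * 2 ≤ a * b := Nat.mul_le_mul ha.two_le hb.two_le
  have := Nat.le_of_dvd two_pos h2
  omega

end PSL

section Congr

variable {F E : Type*} [Field F] [Field E]

/-- The map of general linear groups along an isomorphism of fields. -/
def glCongr (ψ : F ≃+* E) : GL (Fin 4) F ≃* GL (Fin 4) E :=
  Units.mapEquiv ψ.mapMatrix.toMulEquiv

theorem mem_gen (ψ : F ≃+* E) (e : ℕ) {g : GL (Fin 4) F}
    (h : g ∈ Cfsg.Lie.Sp4 F ∧ Cfsg.Lie.star4 (g : Matrix (Fin 4) (Fin 4) F) =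
      (g : Matrix (Fin 4) (Fin 4) F).map (fun x => x ^ e)) :
    glCongr ψ g ∈ Cfsg.Lie.Sp4 E ∧ Cfsg.Lie.star4 (glCongr ψ g : Matrix (Fin 4) (Fin 4) E) =
      (glCongr ψ g : Matrix (Fin 4) (Fin 4) E).map (fun x => x ^ e) := by
  have hcoe : (glCongr ψ g : Matrix (Fin 4) (Fin 4) E) = (g : Matrix (Fin 4) (Fin 4) F).map ψ := rfl
  constructor
  · intro u v
    have h1 := congrArg ψ (h.1 (fun i => ψ.symm (u i)) (fun i => ψ.symm (v i)))
    simp only [Units.coeHom_apply, hcoe] at h1 ⊢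
    simpa [Cfsg.Lie.altForm4, Matrix.mulVec, dotProduct] using h1
  · ext i j
    have h1 := congrArg ψ (congrFun (congrFun h.2 i) j)
    simp only [Cfsg.Lie.star4, Matrix.of_apply, Matrix.map_apply, map_sub, map_mul, map_pow,
      hcoe] at h1 ⊢
    exact h1

theorem map_sz (ψ : F ≃+* E) (e : ℕ) :
    (Cfsg.Lie.Sz F e).map (glCongr ψ).toMonoidHom = Cfsg.Lie.Sz E e := by
  rw [Cfsg.Lie.Sz, MonoidHom.map_closure, Cfsg.Lie.Sz]
  congr 1
  ext g
  constructor
  · rintro ⟨g, hg, rfl⟩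
    exact mem_gen ψ e hg
  · intro hg
    refine ⟨glCongr ψ.symm g, mem_gen ψ.symm e hg, ?_⟩
    refine Units.ext (Matrix.ext fun i j => ?_)
    exact ψ.apply_symm_apply _

/-- The Suzuki groups over isomorphic fields agree. -/
noncomputable def szCongrEquiv (ψ : F ≃+* E) (e : ℕ) : Cfsg.Lie.Sz F e ≃* Cfsg.Lie.Sz E e :=
  ((glCongr ψ).subgroupMap (Cfsg.Lie.Sz F e)).trans (MulEquiv.subgroupCongr (map_sz ψ e))

end Congr

section Suzuki

open CfsgLib.Suzuki CfsgLib.Invol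

variable {F : Type*} [Field F] [CharP F 2] [Fintype F] {m : ℕ}

/-- Two is isolated in the graph of a Suzuki group. -/
theorem isCIT_sz (hm : 1 ≤ m) (hF : Fintype.card F = 2 ^ (2 * m + 1)) :
    CIT.IsCIT (Cfsg.Sz F m) := by
  haveI := Fact.mk Nat.prime_two
  intro t ht c
  obtain ⟨g, hg⟩ := exists_conj_invol_mem_sylow (uSylow hm hF) ht
  have hg' : g * t * g⁻¹ ∈ uSub (thSq_of_card hF) := by rwa [← uSylow_coe hm hF]
  have hc : g * (c : Cfsg.Sz F m) * g⁻¹ ∈ uSub (thSq_of_card hF) := by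
    refine centralizer_le_uSub hm hF hg'
      (fun e => invol_ne_one ht (conj_eq_one_iff.1 e)) (Subgroup.mem_centralizer_singleton_iff.2 ?_)
    have := Subgroup.mem_centralizer_singleton_iff.1 c.2
    calc g * (c : Cfsg.Sz F m) * g⁻¹ * (g * t * g⁻¹) = g * ((c : Cfsg.Sz F m) * t) * g⁻¹ := by group
      _ = g * t * g⁻¹ * (g * c * g⁻¹) := by rw [this]; group
  rw [← uSylow_coe hm hF] at hc
  obtain ⟨k, hk⟩ := (uSylow hm hF).isPGroup' ⟨_, hc⟩
  refine ⟨k, Subtype.ext ?_⟩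
  have := congrArg Subtype.val hk
  simp only [SubmonoidClass.coe_pow, OneMemClass.coe_one, conj_pow, conj_eq_one_iff] at this ⊢
  exact this

theorem not_edge_two_sz (hm : 1 ≤ m) (hF : Fintype.card F = 2 ^ (2 * m + 1)) {r : ℕ} (hr : r.Prime)
    (hr2 : r ≠ 2) (x : Cfsg.Sz F m) : orderOf x ≠ 2 * r := by
  intro hx
  have hne : r ≠ 0 := hr.ne_zero
  have h1 : orderOf (x ^ r) = 2 := by
    rw [orderOf_pow' _ hne, hx, Nat.gcd_eq_right (dvd_mul_left r 2), Nat.mul_div_cancel _ hr.pos]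
  have h2 : orderOf (x ^ 2) = r := by
    rw [orderOf_pow' _ two_ne_zero, hx, Nat.gcd_eq_right (dvd_mul_right 2 r),
      Nat.mul_div_cancel_left _ two_pos]
  have := (isCIT_sz hm hF).eq_one_of_commute_invol (h2 ▸ hr.odd_of_ne_two hr2) h1
    ((Commute.refl x).pow_pow 2 r)
  exact hr.ne_one (by rw [← h2, this, orderOf_one])

/-- No edge between `q - 1` and `q² + 1`. -/
theorem not_edge_tori_sz (hm : 1 ≤ m) (hF : Fintype.card F = 2 ^ (2 * m + 1)) {r s : ℕ} (hr : r.Prime)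
    (hs : s.Prime) (hrq : r ∣ Fintype.card F - 1) (hrn : ¬ r ∣ Fintype.card F ^ 2)
    (hrp : ¬ r ∣ Fintype.card F ^ 2 + 1) (hsn : ¬ s ∣ Fintype.card F - 1) (x : Cfsg.Sz F m) :
    orderOf x ≠ r * s := by
  intro hx
  haveI := Fact.mk hr
  set h := thSq_of_card hF
  obtain ⟨P⟩ : Nonempty (Sylow r (hSub h)) := inferInstance
  -- a Sylow `r`-subgroup of the torus is one of the group
  have hidx : ¬ r ∣ (hSub h).index := by
    intro hd
    have hmul := (hSub h).card_mul_index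
    rw [card_hSub, card_sz hm hF] at hmul
    have hq : 0 < Fintype.card F - 1 := by
      have := Fintype.one_lt_card (α := F)
      omega
    have e : (hSub h).index = Fintype.card F ^ 2 * (Fintype.card F ^ 2 + 1) :=
      Nat.eq_of_mul_eq_mul_left hq (hmul.trans (by ring))
    rcases hr.dvd_mul.1 (e ▸ hd) with h' | h'
    exacts [hrn h', hrp h']
  let Q : Sylow r (Cfsg.Sz F m) := (P.isPGroup'.map (hSub h).subtype).toSylow (by
    rw [Subgroup.index_map_subtype]
    exact hr.not_dvd_mul P.not_dvd_index hidx)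
  have hs0 : orderOf (x ^ s) = r := by
    rw [orderOf_pow' _ hs.ne_zero, hx, Nat.gcd_eq_right (dvd_mul_left s r), Nat.mul_div_cancel _ hs.pos]
  have hpg : IsPGroup r (Subgroup.zpowers (x ^ s)) :=
    IsPGroup.of_card (n := 1) (by rw [Nat.card_zpowers, hs0, pow_one])
  obtain ⟨g, hg⟩ := exists_conj_mem_sylow Q hpg
  have hmem : g * x ^ s * g⁻¹ ∈ hSub h :=
    Subgroup.map_subtype_le _ (hg _ (Subgroup.mem_zpowers _))
  obtain ⟨u, hu⟩ := mem_hSub.1 hmem
  have hu1 : u ≠ 1 := by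
    rintro rfl
    rw [map_one] at hu
    refine hr.ne_one ?_
    rw [← hs0, conj_eq_one_iff.1 hu.symm, orderOf_one]
  have hxc : g * x * g⁻¹ ∈ Subgroup.centralizer {hG h u} := by
    rw [Subgroup.mem_centralizer_singleton_iff, hu]
    calc g * x * g⁻¹ * (g * x ^ s * g⁻¹) = g * (x * x ^ s) * g⁻¹ := by group
      _ = g * x ^ s * g⁻¹ * (g * x * g⁻¹) := by rw [((Commute.refl x).pow_right s).eq]; group
  rw [centralizer_hG hm hF hu1] at hxc
  have hd := Subgroup.orderOf_dvd_natCard _ hxc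
  rw [orderOf_conj_eq, hx, card_hSub] at hd
  exact hsn ((dvd_mul_left s r).trans hd)

end Suzuki

end CfsgLib.Recog.CITGraph
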