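import Cfsg.Agent.Lib.Invol.CIT.Basic
import Cfsg.Agent.Lib.Recog.ThreePrimes
import Cfsg.Agent.Lib.ClassK.Zsigmondy

/-!
Prime arithmetic for powers of two, and elements of odd prime order outside a normal subgroup of a
group with 2-group involution centralisers.
-/

set_option autoImplicit false
set_option linter.unusedSectionVars false
set_option linter.style.haveILetI false

namespace CfsgLib.Recog.CITGraph

open CfsgLib.Invol CfsgLib.Invol.CIT
open scoped Pointwise

/-- The exponent of a divisor `2^k - 1` or `2^k + 1` of `2^n - 1`. -/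
theorem dvd_of_mersenne {k n : ℕ} (hk : 1 ≤ k) (h : 2 ^ k - 1 ∣ 2 ^ n - 1) : k ∣ n := by
  rw [← Nat.gcd_eq_left_iff_dvd, Nat.pow_sub_one_gcd_pow_sub_one] at h
  have h1 : 2 ^ Nat.gcd k n = 2 ^ k := by
    have := Nat.one_le_two_pow (n := Nat.gcd k n)
    have := Nat.one_le_two_pow (n := k)
    omega
  exact Nat.gcd_eq_left_iff_dvd.1 (Nat.pow_right_injective le_rfl h1)

theorem dvd_of_fermat {k n : ℕ} (hk : 1 ≤ k) (h : 2 ^ k + 1 ∣ 2 ^ n - 1) : 2 * k ∣ n := by
  have h2 : 2 ^ k + 1 ∣ 2 ^ (2 * k) - 1 := by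
    refine ⟨2 ^ k - 1, ?_⟩
    rw [mul_comm 2 k, pow_mul, ← Nat.sq_sub_sq, one_pow]
  have h3 := Nat.dvd_gcd h2 h
  rw [Nat.pow_sub_one_gcd_pow_sub_one] at h3
  have hg0 : 0 < Nat.gcd (2 * k) n := Nat.gcd_pos_of_pos_left n (by omega)
  have hle : 2 ^ k + 1 ≤ 2 ^ Nat.gcd (2 * k) n - 1 := Nat.le_of_dvd
    (by have := Nat.pow_le_pow_right (show 0 < 2 by omega) hg0; rw [pow_one] at this; omega) h3
  have := Nat.one_le_two_pow (n := k)
  have hlt : k < Nat.gcd (2 * k) n := (Nat.pow_lt_pow_iff_right (show 1 < 2 by omega)).1 (by omega)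
  obtain ⟨c, hc⟩ := Nat.gcd_dvd_left (2 * k) n
  rcases c with _ | _ | c
  · omega
  · simp only [zero_add, mul_one] at hc
    rw [hc]; exact Nat.gcd_dvd_right _ _
  · exfalso
    have : Nat.gcd (2 * k) n * 2 ≤ Nat.gcd (2 * k) n * (c + 1 + 1) := Nat.mul_le_mul_left _ (by omega)
    omega

/-- A primitive prime divisor of `2^n - 1`. -/
theorem exists_primitive_two {n : ℕ} (hn : 2 ≤ n) (h6 : n ≠ 6) :
    ∃ r : ℕ, r.Prime ∧ r ≠ 2 ∧ r ∣ 2 ^ n - 1 ∧ ∀ k : ℕ, 0 < k → k < n → ¬ r ∣ 2 ^ k - 1 := by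
  obtain ⟨r, hr, hd, hk⟩ := CfsgLib.ClassK.zsigmondy one_lt_two (show 1 < n by omega)
    (fun h => h6 h.2) (fun ⟨_, j, hj⟩ => by
      rcases j with _ | j
      · simp at hj
      · rw [pow_succ] at hj; omega)
  refine ⟨r, hr, ?_, hd, hk⟩
  rintro rfl
  obtain ⟨c, hc⟩ : 2 ∣ 2 ^ n := dvd_pow_self 2 (by omega)
  have := Nat.one_le_two_pow (n := n)
  omega

theorem dvd_two_pow_double {r k : ℕ} (h : r ∣ 2 ^ k + 1) : r ∣ 2 ^ (2 * k) - 1 := by
  rw [mul_comm 2 k, pow_mul, ← one_pow 2, Nat.sq_sub_sq]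
  exact h.mul_right _

universe u

variable {X : Type u} [Group X] [Finite X]

/-- An odd prime outside a normal subgroup divides `|S| - 1` for its Sylow 2-subgroup `S`. -/
theorem dvd_sylow_card_sub_one (hX : IsCIT X) (L : Subgroup X) [L.Normal] {p : ℕ} (hp : p.Prime)
    (hp2 : p ≠ 2) (hpX : p ∣ Nat.card X) (hpL : ¬ p ∣ Nat.card L) :
    ∃ S : Sylow 2 L, p ∣ Nat.card (S : Subgroup L) - 1 := by
  classical
  haveI := Fact.mk hp
  haveI := Fact.mk Nat.prime_two
  obtain ⟨x, hx⟩ := exists_prime_orderOf_dvd_card' p hpX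
  let A : Subgroup X := Subgroup.zpowers x
  have hA : IsPGroup p A := IsPGroup.of_card (n := 1) (by rw [Nat.card_zpowers, hx, pow_one])
  letI : MulAction A (Sylow 2 L) :=
    MulAction.compHom (Sylow 2 L) ((MulAut.conjNormal (H := L)).comp A.subtype)
  obtain ⟨S, hS⟩ := hA.nonempty_fixed_point_of_prime_not_dvd_card (Sylow 2 L) fun h =>
    hpL (h.trans ((default : Sylow 2 L).card_dvd_index.trans (Subgroup.index_dvd_card _)))
  refine ⟨S, ?_⟩
  -- the action on the non-trivial elements of `S`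
  have hmem : ∀ a : A, ∀ s : L, s ∈ S → MulAut.conjNormal (H := L) (a : X) s ∈ S := fun a s hs => by
    have h := Subgroup.smul_mem_pointwise_smul s (MulAut.conjNormal (H := L) (a : X)) (S : Subgroup L) hs
    have e : MulAut.conjNormal (H := L) (a : X) • (S : Subgroup L) = S := congrArg Sylow.toSubgroup (hS a)
    rwa [e] at h
  let T := {s : (S : Subgroup L) // s ≠ 1}
  letI : MulAction A T :=
    { smul := fun a s => ⟨⟨MulAut.conjNormal (H := L) (a : X) s.1.1, hmem a _ s.1.2⟩, fun e => s.2 (by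
        have h := congrArg Subtype.val e
        simpa using h)⟩
      one_smul := fun s => Subtype.ext (Subtype.ext (by
        show MulAut.conjNormal ((1 : A) : X) s.1.1 = _; simp))
      mul_smul := fun a b s => Subtype.ext (Subtype.ext (by
        show MulAut.conjNormal ((a * b : A) : X) s.1.1 =
          MulAut.conjNormal (H := L) (a : X) (MulAut.conjNormal (b : X) s.1.1)
        simp)) }
  have hcard : Nat.card T = Nat.card (S : Subgroup L) - 1 := by
    haveI := Fintype.ofFinite (S : Subgroup L)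
    simp [T, Fintype.card_subtype_compl]
  rw [← hcard]
  by_contra hnd
  obtain ⟨s, hs⟩ := hA.nonempty_fixed_point_of_prime_not_dvd_card T hnd
  have he := congrArg (fun t : T => ((t.1.1 : L) : X)) (hs ⟨x, Subgroup.mem_zpowers x⟩)
  have he' : x * ((s.1.1 : L) : X) * x⁻¹ = ((s.1.1 : L) : X) := by
    exact (MulAut.conjNormal_apply x s.1.1).symm.trans he
  obtain ⟨k, hk⟩ := S.isPGroup' s.1
  refine s.2 (Subtype.ext (Subtype.ext ?_))
  by_contra hne
  have := hX.eq_one_of_commute (hx.symm ▸ hp.odd_of_ne_two hp2)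
    ⟨k, by simpa using congrArg (fun t : (S : Subgroup L) => ((t.1 : L) : X)) hk⟩ hne
    (mul_inv_eq_iff_eq_mul.1 he')
  exact hp.ne_one (by rw [← hx, this, orderOf_one])

/-- A primitive prime of `2^(2m) - 1` divides the normal subgroup. -/
theorem false_of_primitive (hX : IsCIT X) (L : Subgroup X) [L.Normal] {m p : ℕ} (hp : p.Prime)
    (hp2 : p ≠ 2) (hprim : ∀ k : ℕ, 0 < k → k < 2 * m → ¬ p ∣ 2 ^ k - 1) (hpX : p ∣ Nat.card X)
    (hpL : ¬ p ∣ Nat.card L) (h2 : 2 ∣ Nat.card L) (hsmall : ¬ 2 ^ (2 * m) ∣ Nat.card L) : False := by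
  haveI := Fact.mk Nat.prime_two
  obtain ⟨S, hS⟩ := dvd_sylow_card_sub_one hX L hp hp2 hpX hpL
  obtain ⟨k, hk⟩ := IsPGroup.iff_card.1 S.isPGroup'
  rw [hk] at hS
  refine hprim k (Nat.pos_of_ne_zero fun e => ?_) ?_ hS
  · refine S.ne_bot_of_dvd_card h2 (Subgroup.card_eq_one.1 ?_)
    rw [hk, e, pow_zero]
  · by_contra hge
    exact hsmall ((pow_dvd_pow 2 (not_lt.1 hge)).trans (hk ▸ Subgroup.card_subgroup_dvd_card _))

/-- A prime `r` outside a normal subgroup commutes with an element of order `p` of it, if `r` does not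
divide `p - 1` and `p` divides the order once. -/
theorem exists_edge_outside (L : Subgroup X) [L.Normal] {p r : ℕ} (hp : p.Prime) (hr : r.Prime)
    (hrp : ¬ r ∣ p - 1) (hpL : p ∣ Nat.card L) (hp2 : ¬ p ^ 2 ∣ Nat.card L) (hrX : r ∣ Nat.card X)
    (hrL : ¬ r ∣ Nat.card L) : ∃ z : X, orderOf z = r * p := by
  classical
  haveI := Fact.mk hp
  haveI := Fact.mk hr
  have hne : r ≠ p := fun e => hrL (e ▸ hpL)
  obtain ⟨x, hx⟩ := exists_prime_orderOf_dvd_card' r hrX
  let A : Subgroup X := Subgroup.zpowers x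
  have hA : IsPGroup r A := IsPGroup.of_card (n := 1) (by rw [Nat.card_zpowers, hx, pow_one])
  letI : MulAction A (Sylow p L) :=
    MulAction.compHom (Sylow p L) ((MulAut.conjNormal (H := L)).comp A.subtype)
  obtain ⟨P, hP⟩ := hA.nonempty_fixed_point_of_prime_not_dvd_card (Sylow p L) fun h =>
    hrL (h.trans ((default : Sylow p L).card_dvd_index.trans (Subgroup.index_dvd_card _)))
  have hPc : Nat.card (P : Subgroup L) = p := by
    obtain ⟨j, hj⟩ := IsPGroup.iff_card.1 P.isPGroup'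
    have hle : j ≤ 1 := by
      by_contra h
      exact hp2 ((pow_dvd_pow p (show 2 ≤ j by omega)).trans (hj ▸ Subgroup.card_subgroup_dvd_card _))
    have hge : j ≠ 0 := fun e => P.ne_bot_of_dvd_card hpL (Subgroup.card_eq_one.1 (by
      rw [hj, e, pow_zero]))
    rw [hj, show j = 1 by omega, pow_one]
  obtain ⟨c, hc⟩ := exists_prime_orderOf_dvd_card' (G := (P : Subgroup L)) p (by rw [hPc])
  have hmem : MulAut.conjNormal x (c : L) ∈ P := by
    have h := Subgroup.smul_mem_pointwise_smul (c : L) (MulAut.conjNormal (H := L) x) (P : Subgroup L) c.2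
    have e : MulAut.conjNormal (H := L) x • (P : Subgroup L) = P :=
      congrArg Sylow.toSubgroup (hP ⟨x, Subgroup.mem_zpowers x⟩)
    rwa [e] at h
  -- `x` acts on `⟨c⟩` as a power, with exponent of order dividing `r` and `p - 1`
  obtain ⟨a, ha⟩ : ∃ a : ℕ, c ^ a = (⟨_, hmem⟩ : (P : Subgroup L)) := by
    have : (⟨_, hmem⟩ : (P : Subgroup L)) ∈ Subgroup.zpowers c :=
      mem_zpowers_of_prime_card hPc (fun e => hp.ne_one (by rw [← hc, e, orderOf_one]))
    exact mem_powers_iff_mem_zpowers.2 this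
  have hcX : orderOf ((c : L) : X) = p := by rw [Subgroup.orderOf_coe, Subgroup.orderOf_coe, hc]
  have hconj : x * ((c : L) : X) * x⁻¹ = ((c : L) : X) ^ a := by
    have h := congrArg (fun d : (P : Subgroup L) => ((d : L) : X)) ha
    simpa using h.symm
  have hpow : ∀ i : ℕ, x ^ i * ((c : L) : X) * (x ^ i)⁻¹ = ((c : L) : X) ^ (a ^ i) := by
    intro i
    induction i with
    | zero => simp
    | succ i ih =>
      rw [pow_succ' x, pow_succ a, show x * x ^ i * ((c : L) : X) * (x * x ^ i)⁻¹ =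
        x * (x ^ i * ((c : L) : X) * (x ^ i)⁻¹) * x⁻¹ by group, ih, ← conj_pow, hconj, ← pow_mul,
        mul_comm]
  have har := hpow r
  rw [show x ^ r = 1 from hx ▸ pow_orderOf_eq_one x, one_mul, inv_one, mul_one] at har
  have hfix : ((a : ℕ) : ZMod p) ^ r = 1 := by
    have := (pow_eq_pow_iff_modEq (x := ((c : L) : X)) (n := a ^ r) (m := 1)).1 (by
      rw [pow_one]; exact har.symm)
    rw [hcX, ← ZMod.natCast_eq_natCast_iff] at this
    simpa using this
  have ha1 : (a : ZMod p) = 1 := by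
    have ha0 : (a : ZMod p) ≠ 0 := fun e => by rw [e, zero_pow hr.ne_zero] at hfix; exact zero_ne_one hfix
    rw [← orderOf_eq_one_iff]
    exact Nat.eq_one_of_dvd_coprimes (Nat.coprime_comm.1 ((hr.coprime_iff_not_dvd).2 hrp))
      (ZMod.orderOf_dvd_card_sub_one ha0) (orderOf_dvd_of_pow_eq_one hfix)
  have hcomm : Commute x ((c : L) : X) := by
    refine mul_inv_eq_iff_eq_mul.1 (hconj.trans ?_)
    conv_rhs => rw [← pow_one ((c : L) : X)]
    refine pow_eq_pow_iff_modEq.2 ?_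
    rw [hcX, ← ZMod.natCast_eq_natCast_iff]
    simpa using ha1
  exact CfsgLib.Recog.exists_orderOf_prime_mul hcomm hr hp hne (dvd_of_eq hx.symm) (dvd_of_eq hcX.symm)

end CfsgLib.Recog.CITGraph
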