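import Cfsg.Agent.Lib.Invol.CIT.Basic
import Cfsg.Agent.Lib.KnownC.AutPSLMain
import Cfsg.Agent.Lib.KnownB.PSL2Elem
import Cfsg.Agent.Lib.Suzuki.Out

/-!
In a group with 2-group involution centralisers, a normal subgroup `PSL(2, 2^f)` or `Sz(q)` is
centralised by no outer automorphism: a field automorphism fixes an involution and an element of odd
order.
-/

set_option autoImplicit false
set_option linter.unusedSectionVars false
set_option linter.style.haveILetI false

namespace CfsgLib.Recog.CITGraph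

open CfsgLib.Invol CfsgLib.Invol.CIT Matrix
open scoped MatrixGroups

universe u

variable {X : Type u} [Group X]

/-- An element acting on an involution and an element of odd order as `g` does equals `g`. -/
theorem eq_of_conj (hX : IsCIT X) {x g a b : X} (ha : orderOf a = 2) (hb : Odd (orderOf b))
    (hb1 : b ≠ 1) (h1 : x * a * x⁻¹ = g * a * g⁻¹) (h2 : x * b * x⁻¹ = g * b * g⁻¹) : x = g := by
  have hc : ∀ {c : X}, x * c * x⁻¹ = g * c * g⁻¹ → Commute c (g⁻¹ * x) := fun {c} h => by
    show c * (g⁻¹ * x) = g⁻¹ * x * c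
    calc c * (g⁻¹ * x) = g⁻¹ * (g * c * g⁻¹) * x := by group
      _ = g⁻¹ * (x * c * x⁻¹) * x := by rw [h]
      _ = g⁻¹ * x * c := by group
  by_contra hne
  refine hb1 (hX.eq_one_of_commute hb ?_ (fun e => hne (inv_mul_eq_one.1 e).symm) (hc h2))
  exact hX.two_pow_of_commute ⟨1, by rw [pow_one, pow_two, invol_mul_self ha]⟩ (invol_ne_one ha)
    (hc h1).symm

/-- A normal subgroup with the conjugation on two such elements realised inside is everything. -/
theorem eq_top_of_fixed (hX : IsCIT X) (L : Subgroup X) [L.Normal] {a b : L} (ha : orderOf a = 2)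
    (hb : Odd (orderOf b)) (hb1 : b ≠ 1)
    (h : ∀ β : MulAut L, ∃ g : L, β a = g * a * g⁻¹ ∧ β b = g * b * g⁻¹) : L = ⊤ := by
  rw [Subgroup.eq_top_iff']
  intro x
  obtain ⟨g, h1, h2⟩ := h (MulAut.conjNormal x)
  have : x = (g : X) := eq_of_conj hX (by rwa [Subgroup.orderOf_coe]) (by rwa [Subgroup.orderOf_coe])
    (fun e => hb1 (Subtype.ext e))
    (by simpa using congrArg Subtype.val h1) (by simpa using congrArg Subtype.val h2)
  exact this ▸ g.2

section PSL

variable {E : Type*} [Field E] [Fintype E]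

local notation "PS" => Matrix.ProjectiveSpecialLinearGroup (Fin 2) E

/-- An element of `SL₂` with the stated entries. -/
def slMk (a b c d : E) (h : a * d - b * c = 1) : SL(2, E) :=
  ⟨!![a, b; c, d], by rw [det_fin_two_of]; exact h⟩

/-- An automorphism of `PSL(2, 2^f)` is inner on matrices fixed by the field automorphisms. -/
theorem exists_inner_on_prime (h2 : (2 : E) = 0) (β : MulAut PS) :
    ∃ σ : E ≃+* E, ∃ d : PS, ∀ s : SL(2, E), (∀ i j, σ (s.1 i j) = s.1 i j) →
      β (QuotientGroup.mk s) = d * QuotientGroup.mk s * d⁻¹ := by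
  classical
  rcases CfsgLib.KnownC.mulAut_psl_cases le_rfl β with ⟨g, σ, rfl⟩ | ⟨h3, -⟩
  swap
  · omega
  have hchar : ringChar E = 2 := by
    haveI : CharP E 2 := CharTwo.of_one_ne_zero_of_two_eq_zero one_ne_zero h2
    exact ringChar.eq E 2
  obtain ⟨c, hc⟩ := FiniteField.isSquare_of_char_two hchar (g : Matrix (Fin 2) (Fin 2) E).det
  have hdet : (g : Matrix (Fin 2) (Fin 2) E).det ≠ 0 := by
    have := Matrix.GeneralLinearGroup.det g
    exact (Matrix.isUnit_iff_isUnit_det _).1 g.isUnit |>.ne_zero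
  have hc0 : c ≠ 0 := fun e => hdet (by rw [hc, e, mul_zero])
  let s0 : SL(2, E) := ⟨c⁻¹ • (g : Matrix (Fin 2) (Fin 2) E), by
    rw [Matrix.det_smul, Fintype.card_fin, hc]
    field_simp⟩
  refine ⟨σ, QuotientGroup.mk s0, fun s hs => ?_⟩
  have hfix : CfsgLib.KnownC.slField σ s = s :=
    Subtype.ext (Matrix.ext fun i j => hs i j)
  rw [CfsgLib.KnownC.semiAut_mk, hfix, eq_mul_inv_iff_mul_eq, ← QuotientGroup.mk_mul,
    ← QuotientGroup.mk_mul]
  congr 1
  refine Subtype.ext ?_
  show (CfsgLib.KnownC.slConj g s).1 * (c⁻¹ • (g : Matrix (Fin 2) (Fin 2) E)) =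
    c⁻¹ • (g : Matrix (Fin 2) (Fin 2) E) * s.1
  rw [CfsgLib.KnownC.slConj_coe, Matrix.mul_smul, Matrix.smul_mul, Matrix.mul_assoc _ (g⁻¹).1,
    Units.inv_mul, Matrix.mul_one]

/-- A normal `PSL(2, 2^f)` is everything. -/
theorem eq_top_psl [Finite X] (hX : IsCIT X) (L : Subgroup X) [L.Normal] {f : ℕ}
    (hf : 1 ≤ f) (hE : Fintype.card E = 2 ^ f) (e : L ≃* PS) : L = ⊤ := by
  haveI := Fact.mk Nat.prime_two
  haveI : CharP E 2 := charP_of_card_eq_prime_pow hE
  have h2 : (2 : E) = 0 := CharTwo.two_eq_zero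
  let u : SL(2, E) := slMk 1 1 0 1 (by simp)
  let v : SL(2, E) := slMk 0 1 1 1 (by linear_combination (-1 : E) * h2)
  have hu : orderOf (QuotientGroup.mk u : PS) = 2 := by
    refine orderOf_eq_prime ?_ fun h => ?_
    · rw [← QuotientGroup.mk_pow, pow_two, show u * u = 1 from Subtype.ext (by
        show (!![1, 1; 0, 1] : Matrix (Fin 2) (Fin 2) E) * !![1, 1; 0, 1] = 1
        ext i j
        fin_cases i <;> fin_cases j <;> simp [Matrix.mul_apply, Fin.sum_univ_two, ← two_mul, h2]),
        QuotientGroup.mk_one]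
    · obtain ⟨a, ha⟩ := CfsgLib.KnownB.SL2.mk_eq_one_iff.1 h
      simpa [u, slMk] using congrFun (congrFun ha 0) 1
  have hv : orderOf (QuotientGroup.mk v : PS) = 3 := by
    haveI := Fact.mk Nat.prime_three
    refine orderOf_eq_prime ?_ fun h => ?_
    · rw [← QuotientGroup.mk_pow, pow_three, show v * (v * v) = 1 from Subtype.ext (by
        show (!![0, 1; 1, 1] : Matrix (Fin 2) (Fin 2) E) * (!![0, 1; 1, 1] * !![0, 1; 1, 1]) = 1
        ext i j
        fin_cases i <;> fin_cases j <;> simp [Matrix.mul_apply, Fin.sum_univ_two] <;> grind),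
        QuotientGroup.mk_one]
    · obtain ⟨a, ha⟩ := CfsgLib.KnownB.SL2.mk_eq_one_iff.1 h
      simpa [v, slMk] using congrFun (congrFun ha 0) 1
  refine eq_top_of_fixed hX L (a := e.symm (QuotientGroup.mk u)) (b := e.symm (QuotientGroup.mk v))
    (by rw [MulEquiv.orderOf_eq, hu]) (by rw [MulEquiv.orderOf_eq, hv]; decide)
    (fun h => by simpa [hv] using congrArg orderOf h) fun β => ?_
  obtain ⟨σ, d, hd⟩ := exists_inner_on_prime h2 (MulAut.congr e β)
  refine ⟨e.symm d, ?_, ?_⟩ <;> apply e.injective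
  · have := hd u fun i j => by fin_cases i <;> fin_cases j <;> simp [u, slMk]
    simpa [MulAut.congr] using this
  · have := hd v fun i j => by fin_cases i <;> fin_cases j <;> simp [v, slMk]
    simpa [MulAut.congr] using this

end PSL

section Suzuki

open CfsgLib.Suzuki

variable {E : Type*} [Field E] [CharP E 2] [Fintype E] {m : ℕ}

/-- A normal Suzuki group is everything. -/
theorem eq_top_sz [Finite X] (hX : IsCIT X) (L : Subgroup X) [L.Normal] (hm : 1 ≤ m)
    (hE : Fintype.card E = 2 ^ (2 * m + 1)) (e : L ≃* Cfsg.Sz E m) : L = ⊤ := by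
  have h := thSq_of_card hE
  let a : Cfsg.Sz E m := tG h 0 1
  have ha : orderOf a = 2 := by
    refine invol_of_mul_self ?_ fun he => ?_
    · show tG h (0 : E) 1 * tG h 0 1 = 1
      rw [tG_sq, mul_zero, tG_zero]
    · exact one_ne_zero (tG_inj h (he.trans (tG_zero h).symm)).2
  let f : ZMod 2 →+* E := ZMod.castHom (dvd_refl 2) E
  let M : Matrix (Fin 4) (Fin 4) (ZMod 2) := !![1, 1, 0, 1; 1, 0, 1, 0; 0, 1, 0, 0; 1, 0, 0, 0]
  have haw : (a * wG h).1.1 = M.map f := by
    show tMat m (0 : E) 1 * (wSL E).1 = M.map f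
    ext i j
    fin_cases i <;> fin_cases j <;> simp [tMat, wSL, M, Matrix.mul_apply, Fin.sum_univ_four]
  have hb5 : orderOf (a * wG h) = 5 := by
    haveI := Fact.mk (show Nat.Prime 5 by norm_num)
    refine orderOf_eq_prime (Subtype.ext (Subtype.ext ?_)) fun he => ?_
    · show (a * wG h).1.1 ^ 5 = 1
      rw [haw, ← Matrix.map_pow, show M ^ 5 = 1 by decide +kernel]
      simp
    · have := congrFun (congrFun (congrArg (fun g : Cfsg.Sz E m => g.1.1) he) 0) 1
      simp only [haw] at this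
      simp [M] at this
  refine eq_top_of_fixed hX L (a := e.symm a) (b := e.symm (a * wG h))
    (by rw [MulEquiv.orderOf_eq, ha]) (by rw [MulEquiv.orderOf_eq, hb5]; decide)
    (fun h' => by
      have := congrArg orderOf h'
      rw [MulEquiv.orderOf_eq, hb5, orderOf_one] at this
      omega) fun β => ?_
  obtain ⟨g, σ, hg⟩ := exists_conj_mul_field hm hE (MulAut.congr e β)
  have hfa : fieldHom E m σ a = a := by
    show fieldHom E m σ (tG h 0 1) = _
    rw [fieldHom_tG, map_zero, map_one]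
  have h1 := congrArg (fun φ : MulAut (Cfsg.Sz E m) => φ a) hg
  have h2 := congrArg (fun φ : MulAut (Cfsg.Sz E m) => φ (a * wG h)) hg
  simp only [MulAut.mul_apply, map_mul, hfa, fieldHom_wG, MulAut.conj_apply] at h1 h2
  refine ⟨e.symm g, ?_, ?_⟩ <;> apply e.injective
  · simpa [MulAut.congr] using h1
  · simpa [MulAut.congr, mul_assoc] using h2

end Suzuki

end CfsgLib.Recog.CITGraph
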