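import Cfsg.Agent.Lib.Invol.CIT.Basic
import Cfsg.Agent.Lib.Invol.CN.Socle
import Cfsg.Agent.Lib.Invol.ZStar
import Cfsg.Agent.Lib.Solvable.Hall
import Cfsg.Agent.Lib.StructC.PrimePowerOrders

/-!
Groups in which the prime two is isolated in the prime graph: when they are not solvable they are,
modulo their 2-core, almost simple with a CIT socle.
-/

set_option autoImplicit false
set_option linter.unusedSectionVars false
set_option linter.style.haveILetI false

namespace CfsgLib.Recog.CITGraph

open Subgroup CfsgLib.Invol CfsgLib.Invol.CIT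

universe u

variable {G : Type u} [Group G] [Finite G]

theorem isCIT_of_no_edge (h : ∀ r : ℕ, r.Prime → r ≠ 2 → ∀ y : G, orderOf y ≠ 2 * r) : IsCIT G := by
  intro t ht
  refine IsPGroup.of_card (n := (Nat.card (centralizer ({t} : Set G))).primeFactorsList.length)
    (Nat.eq_prime_pow_of_unique_prime_dvd Nat.card_pos.ne' fun {d} hd hdd => ?_)
  by_contra hne
  haveI := Fact.mk hd
  obtain ⟨x, hx⟩ := exists_prime_orderOf_dvd_card' (G := centralizer ({t} : Set G)) d hdd
  rw [← Subgroup.orderOf_coe] at hx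
  refine h d hd hne (t * x) ?_
  have hc : Commute t (x : G) := (mem_centralizer_singleton_iff.1 x.2).symm
  rw [hc.orderOf_mul_eq_mul_orderOf_of_coprime
    (by rw [ht, hx]; exact (Nat.coprime_primes Nat.prime_two hd).2 (fun e => hne e.symm)), ht, hx]

/-- Three pairwise non-adjacent primes exclude solvability. -/
theorem not_isSolvable_of_three {a b c : ℕ} (ha : a.Prime) (hb : b.Prime) (hc : c.Prime)
    (hab : a ≠ b) (hac : a ≠ c) (hbc : b ≠ c)
    (da : a ∣ Nat.card G) (db : b ∣ Nat.card G) (dc : c ∣ Nat.card G)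
    (nab : ∀ y : G, orderOf y ≠ a * b) (nac : ∀ y : G, orderOf y ≠ a * c)
    (nbc : ∀ y : G, orderOf y ≠ b * c) : ¬ Group.IsSolvable G := by
  classical
  intro hs
  haveI := hs
  set N := Nat.card G with hN
  set s : Finset ℕ := {a, b, c} with hsdef
  have hN0 : N ≠ 0 := Nat.card_pos.ne'
  obtain ⟨k, hk, hmem⟩ : ∃ k, k ∣ N ∧ ∀ p : ℕ, p.Prime →
      (p ∈ s → ¬ p ∣ N / k ∧ p ∣ k) ∧ (p ∉ s → ¬ p ∣ k) := by
    refine ⟨∏ p ∈ s, p ^ N.factorization p, ?_, fun p hp => ⟨fun hps => ?_, fun hps hd => ?_⟩⟩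
    · refine Finset.prod_dvd_of_isRelPrime (fun p hp q hq hne => ?_) fun p _ => Nat.ordProj_dvd N p
      have hpp : p.Prime := by
        simp only [s, Finset.coe_insert, Set.mem_insert_iff, Finset.coe_singleton, Set.mem_singleton_iff] at hp
        rcases hp with rfl | rfl | rfl <;> assumption
      have hqp : q.Prime := by
        simp only [s, Finset.coe_insert, Set.mem_insert_iff, Finset.coe_singleton, Set.mem_singleton_iff] at hq
        rcases hq with rfl | rfl | rfl <;> assumption
      exact Nat.coprime_iff_isRelPrime.1 (Nat.Coprime.pow _ _ ((Nat.coprime_primes hpp hqp).2 hne))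
    · have hd : p ∣ N := by
        simp only [s, Finset.mem_insert, Finset.mem_singleton] at hps
        rcases hps with rfl | rfl | rfl <;> assumption
      refine ⟨fun h' => Nat.not_dvd_ordCompl hp hN0 (h'.trans (Nat.div_dvd_div_left ?_ ?_)),
        (dvd_pow_self p (hp.factorization_pos_of_dvd hN0 hd).ne').trans (Finset.dvd_prod_of_mem _ hps)⟩
      · refine Finset.prod_dvd_of_isRelPrime (fun q hq r hr hne => ?_) fun q _ => Nat.ordProj_dvd N q
        have hqp : q.Prime := by
          simp only [s, Finset.coe_insert, Set.mem_insert_iff, Finset.coe_singleton, Set.mem_singleton_iff] at hq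
          rcases hq with rfl | rfl | rfl <;> assumption
        have hrp : r.Prime := by
          simp only [s, Finset.coe_insert, Set.mem_insert_iff, Finset.coe_singleton, Set.mem_singleton_iff] at hr
          rcases hr with rfl | rfl | rfl <;> assumption
        exact Nat.coprime_iff_isRelPrime.1 (Nat.Coprime.pow _ _ ((Nat.coprime_primes hqp hrp).2 hne))
      · exact Finset.dvd_prod_of_mem _ hps
    · obtain ⟨q, hq, hpq⟩ := (Prime.dvd_finset_prod_iff (Nat.prime_iff.1 hp) _).1 hd
      have hqp : q.Prime := by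
        simp only [s, Finset.mem_insert, Finset.mem_singleton] at hq
        rcases hq with rfl | rfl | rfl <;> assumption
      exact hps ((Nat.prime_dvd_prime_iff_eq hp hqp).1 (hp.dvd_of_dvd_pow hpq) ▸ hq)
  have hcop : k.Coprime (N / k) := Nat.coprime_of_dvd fun p hp h1 h2 => by
    by_cases hps : p ∈ s
    · exact ((hmem p hp).1 hps).1 h2
    · exact (hmem p hp).2 hps h1
  obtain ⟨H, hH⟩ := CfsgLib.Solvable.exists_hall (G := G) (Nat.mul_div_cancel' hk).symm hcop
  have hPP : CfsgLib.StructC.PrimePowerOrders.PP ↥H := by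
    intro g hg
    set n := orderOf g with hn
    have hn1 : n ≠ 1 := fun e => hg (orderOf_eq_one_iff.1 e)
    have hnk : n ∣ k := hH ▸ orderOf_dvd_natCard g
    obtain ⟨p, hp, hpn⟩ := Nat.exists_prime_and_dvd hn1
    refine (isPrimePow_iff_pow_succ _).2 ⟨p, n.primeFactorsList.length - 1, Nat.prime_iff.1 hp, ?_⟩
    have huniq : ∀ {d : ℕ}, d.Prime → d ∣ n → d = p := by
      intro d hd hdn
      by_contra hne
      have hdp : orderOf ((g : G) ^ (n / (d * p))) = d * p := by
        have hdvd : d * p ∣ n := ((Nat.coprime_primes hd hp).2 hne).mul_dvd_of_dvd_of_dvd hdn hpn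
        rw [hn, ← Subgroup.orderOf_coe] at hdvd ⊢
        exact orderOf_pow_orderOf_div (orderOf_pos _).ne' hdvd
      have h1 : d ∈ s := by
        by_contra hh; exact (hmem d hd).2 hh (hdn.trans hnk)
      have h2 : p ∈ s := by
        by_contra hh; exact (hmem p hp).2 hh (hpn.trans hnk)
      simp only [s, Finset.mem_insert, Finset.mem_singleton] at h1 h2
      rcases h1 with rfl | rfl | rfl <;> rcases h2 with rfl | rfl | rfl <;>
        first
        | exact hne rfl
        | exact nab _ hdp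
        | exact nac _ hdp
        | exact nbc _ hdp
        | exact nab _ (hdp.trans (mul_comm _ _))
        | exact nac _ (hdp.trans (mul_comm _ _))
        | exact nbc _ (hdp.trans (mul_comm _ _))
    have he := Nat.eq_prime_pow_of_unique_prime_dvd (orderOf_pos g).ne' huniq
    have hl : n.primeFactorsList.length ≠ 0 := fun e => hn1 (by rw [← hn] at he; rw [he, e, pow_zero])
    rw [Nat.sub_add_cancel (Nat.one_le_iff_ne_zero.2 hl)]
    exact he.symm
  haveI : Group.IsSolvable ↥H :=
    Group.isSolvable_of_isSolvable_injective H.subtype_injective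
  have h2 := CfsgLib.StructC.PrimePowerOrders.primeFactors_le_two hPP
  have hsub : s ⊆ (Nat.card H).primeFactors := by
    intro p hps
    have hp : p.Prime := by
      simp only [s, Finset.mem_insert, Finset.mem_singleton] at hps
      rcases hps with rfl | rfl | rfl <;> assumption
    rw [hH, Nat.mem_primeFactors]
    exact ⟨hp, ((hmem p hp).1 hps).2, hH ▸ Nat.card_pos.ne'⟩
  have h3 : s.card = 3 := Finset.card_eq_three.2 ⟨a, b, c, hab, hac, hbc, rfl⟩
  have := Finset.card_le_card hsub
  omega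

theorem isSolvable_of_odd {H : Type*} [Group H] [Finite H] (h : Odd (Nat.card H)) :
    Group.IsSolvable H :=
  CfsgLib.FT.odd_order_solvable h

/-- A CIT group which is not solvable has no normal subgroup of odd order. -/
theorem eq_bot_of_odd (h : IsCIT G) (hns : ¬ Group.IsSolvable G) {N : Subgroup G} [hN : N.Normal]
    (hodd : Odd (Nat.card N)) : N = ⊥ := by
  by_contra hne
  obtain ⟨n, hn, hn1⟩ := N.bot_or_exists_ne_one.resolve_left hne
  haveI : Fact (Nat.Prime 2) := ⟨Nat.prime_two⟩
  set K := centralizer (N : Set G)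
  have hKodd : Odd (Nat.card K) := by
    rw [← Nat.not_even_iff_odd, even_iff_two_dvd]
    intro h2
    obtain ⟨s, hs⟩ := exists_prime_orderOf_dvd_card' (G := K) 2 h2
    rw [← Subgroup.orderOf_coe] at hs
    exact hn1 (h.eq_one_of_commute_invol (odd_orderOf_of_mem hodd hn) hs
      (mem_centralizer_iff.1 s.2 n hn).symm.symm)
  obtain ⟨t, ht⟩ := exists_prime_orderOf_dvd_card' (G := G) 2 (by
    by_contra h2
    exact hns (isSolvable_of_odd (Nat.odd_iff.2 (Nat.two_dvd_ne_zero.1 h2))))
  have hinv : ∀ {c : G}, orderOf c = 2 → ∀ x ∈ N, c * x * c⁻¹ = x⁻¹ := fun {c} hc2 =>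
    inverts_of_fpf hc2 fun x hx e => h.eq_one_of_commute_invol (odd_orderOf_of_mem hodd hx) hc2
      (mul_inv_eq_iff_eq_mul.1 e).symm
  have htt : t * t = 1 := invol_mul_self ht
  have hti : t⁻¹ = t := inv_eq_of_mul_eq_one_right htt
  -- every conjugate of `t` is conjugate to it under `K`
  have hsplit : ∀ g : G, ∃ e ∈ K, e⁻¹ * g ∈ centralizer ({t} : Set G) := by
    intro g
    have hs : orderOf (g * t * g⁻¹) = 2 := by rw [← ht]; exact (MulAut.conj g).orderOf_eq t
    set s := g * t * g⁻¹ with hsdef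
    have hss : s * s = 1 := invol_mul_self hs
    set d := s * t with hd
    have hdK : d ∈ K := mem_centralizer_iff.2 fun x hx => by
      have h1 := hinv ht x hx
      have h2 := hinv hs _ (inv_mem hx)
      rw [inv_inv] at h2
      have : d * x * d⁻¹ = x := by
        calc d * x * d⁻¹ = s * (t * x * t⁻¹) * s⁻¹ := by rw [hd]; group
          _ = x := by rw [h1, h2]
      exact (mul_inv_eq_iff_eq_mul.1 this).symm
    obtain ⟨j, hj⟩ := odd_orderOf_of_mem hKodd hdK
    set e := d ^ (j + 1) with he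
    refine ⟨e, pow_mem hdK _, ?_⟩
    have hee : e * e = d := by
      rw [he, ← pow_add, show j + 1 + (j + 1) = (2 * j + 1) + 1 by ring, pow_succ, ← hj,
        pow_orderOf_eq_one, one_mul]
    have htd : t * d * t⁻¹ = d⁻¹ := by
      rw [hd, mul_inv_rev, hti, inv_eq_of_mul_eq_one_right hss, mul_assoc, mul_assoc, htt, mul_one]
    have hte : t * e * t⁻¹ = e⁻¹ := by
      rw [he, ← conj_pow, htd, inv_pow]
    have hes : e * t * e⁻¹ = s := by
      have h3 : t * e⁻¹ = e * t := by
        have := congrArg (fun x => x⁻¹) hte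
        simp only [mul_inv_rev, inv_inv] at this
        rw [hti] at this
        calc t * e⁻¹ = (t * (e⁻¹ * t)) * t := by rw [mul_assoc, mul_assoc, htt, mul_one]
          _ = e * t := by rw [this]
      rw [mul_assoc, h3, ← mul_assoc, hee, hd, mul_assoc, htt, mul_one]
    rw [hsdef] at hes
    refine mem_centralizer_singleton_iff.2 ?_
    calc e⁻¹ * g * t = e⁻¹ * (g * t * g⁻¹) * g := by group
      _ = e⁻¹ * (e * t * e⁻¹) * g := by rw [hes]
      _ = t * (e⁻¹ * g) := by group
  haveI : Group.IsSolvable K := isSolvable_of_odd hKodd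
  haveI := (h t ht).isNilpotent
  haveI : Group.IsSolvable (G ⧸ K) := by
    refine Group.isSolvable_of_surjective
      (f := (QuotientGroup.mk' K).comp (centralizer ({t} : Set G)).subtype) ?_
    intro x
    obtain ⟨g, rfl⟩ := QuotientGroup.mk'_surjective K x
    obtain ⟨e, he, hc⟩ := hsplit g
    refine ⟨⟨_, hc⟩, ?_⟩
    show QuotientGroup.mk' K (e⁻¹ * g) = QuotientGroup.mk' K g
    rw [map_mul, map_inv, QuotientGroup.mk'_apply K e, (QuotientGroup.eq_one_iff e).2 he, inv_one,
      one_mul]
  exact hns (Group.isSolvable_of_ker_le_range K.subtype (QuotientGroup.mk' K)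
    (by rw [QuotientGroup.ker_mk', K.range_subtype]))

/-- Centralisers of non-trivial elements in a CIT group are solvable. -/
theorem isSolvable_centralizer (h : IsCIT G) {x : G} (hx : x ≠ 1) :
    Group.IsSolvable (centralizer ({x} : Set G)) := by
  haveI : Fact (Nat.Prime 2) := ⟨Nat.prime_two⟩
  by_cases h2 : 2 ∣ Nat.card (centralizer ({x} : Set G))
  · obtain ⟨s, hs⟩ := exists_prime_orderOf_dvd_card' (G := centralizer ({x} : Set G)) 2 h2
    rw [← Subgroup.orderOf_coe] at hs
    have hxs : Commute x (s : G) := (mem_centralizer_singleton_iff.1 s.2).symm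
    obtain ⟨k, hk⟩ := IsPGroup.iff_orderOf.1 (h s hs) ⟨x, mem_centralizer_singleton_iff.2 hxs.eq⟩
    rw [Subgroup.orderOf_mk] at hk
    obtain ⟨z, hz, hzx⟩ : ∃ z : G, orderOf z = 2 ∧ z ∈ zpowers x := by
      have hk0 : k ≠ 0 := fun e => hx (orderOf_eq_one_iff.1 (by rw [hk, e, pow_zero]))
      refine ⟨x ^ (orderOf x / 2), orderOf_pow_orderOf_div (orderOf_pos x).ne'
        (hk ▸ dvd_pow_self 2 hk0), pow_mem (mem_zpowers x) _⟩
    have hle : centralizer ({x} : Set G) ≤ centralizer ({z} : Set G) := by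
      intro g hg
      obtain ⟨i, rfl⟩ := mem_zpowers_iff.1 hzx
      exact mem_centralizer_singleton_iff.2
        ((show Commute g x from mem_centralizer_singleton_iff.1 hg).zpow_right i).eq
    haveI := ((h z hz).to_le hle).isNilpotent
    infer_instance
  · exact isSolvable_of_odd (Nat.odd_iff.2 (Nat.two_dvd_ne_zero.1 h2))

/-- A CIT group which is not solvable is almost simple modulo its 2-core. -/
theorem almost_simple (h : IsCIT G) (hns : ¬ Group.IsSolvable G) :
    ∃ (_ : (Cfsg.pCore 2 G).Normal) (L : Subgroup (G ⧸ Cfsg.pCore 2 G)), L.Normal ∧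
      IsSimpleGroup L ∧ (∃ a b : L, a * b ≠ b * a) ∧
      centralizer (L : Set (G ⧸ Cfsg.pCore 2 G)) = ⊥ ∧ IsCIT (G ⧸ Cfsg.pCore 2 G) := by
  haveI : Fact (Nat.Prime 2) := ⟨Nat.prime_two⟩
  haveI hn : (Cfsg.pCore 2 G).Normal := CfsgLib.Solvable.pCore_normal 2 G
  have hp : IsPGroup 2 (Cfsg.pCore 2 G) := CfsgLib.Solvable.pCore_isPGroup 2
  have hX : IsCIT (G ⧸ Cfsg.pCore 2 G) := h.quotient _ hp
  have hXns : ¬ Group.IsSolvable (G ⧸ Cfsg.pCore 2 G) := fun hs => by
    haveI := hp.isNilpotent
    haveI := hs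
    exact hns (Group.isSolvable_of_ker_le_range (Cfsg.pCore 2 G).subtype
      (QuotientGroup.mk' (Cfsg.pCore 2 G)) (by rw [QuotientGroup.ker_mk', Subgroup.range_subtype]))
  haveI : Nontrivial (G ⧸ Cfsg.pCore 2 G) := by
    by_contra hh
    rw [not_nontrivial_iff_subsingleton] at hh
    exact hXns inferInstance
  haveI : (Cfsg.oddCore (G ⧸ Cfsg.pCore 2 G)).Normal := CfsgLib.Solvable.pPrimeCore_normal 2 _
  have ho : Cfsg.oddCore (G ⧸ Cfsg.pCore 2 G) = ⊥ :=
    eq_bot_of_odd hX hXns (CfsgLib.Invol.odd_card_oddCore _)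
  obtain ⟨L, hLn, hLs, hLna, hLc⟩ := CN.exists_socle
    (fun N hN hNs => CN.eq_bot_of_solvable ho (CfsgLib.Solvable.pCore_quotient_eq_bot 2) hN hNs)
    fun x hx => isSolvable_centralizer hX hx
  exact ⟨hn, L, hLn, hLs, hLna, hLc, hX⟩

/-- The odd prime divisors are those of the quotient by the 2-core. -/
theorem prime_dvd_quotient [hn : (Cfsg.pCore 2 G).Normal] {r : ℕ} (hr : r.Prime) :
    (r ∣ Nat.card (G ⧸ Cfsg.pCore 2 G) → r ∣ Nat.card G) ∧
      (r ≠ 2 → r ∣ Nat.card G → r ∣ Nat.card (G ⧸ Cfsg.pCore 2 G)) := by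
  haveI : Fact (Nat.Prime 2) := ⟨Nat.prime_two⟩
  obtain ⟨j, hj⟩ := IsPGroup.iff_card.1 (CfsgLib.Solvable.pCore_isPGroup 2 (G := G))
  have e := Subgroup.card_eq_card_quotient_mul_card_subgroup (Cfsg.pCore 2 G)
  rw [hj] at e
  refine ⟨fun hd => e ▸ hd.mul_right _, fun hr2 hd => ?_⟩
  rw [e] at hd
  exact (hr.dvd_mul.1 hd).resolve_right fun h2 =>
    hr2 ((Nat.prime_dvd_prime_iff_eq hr Nat.prime_two).1 (hr.dvd_of_dvd_pow h2))

/-- Conjugation embeds an almost simple group in the automorphism group of its socle. -/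
theorem conjNormal_injective {L : Subgroup G} [L.Normal] (hC : centralizer (L : Set G) = ⊥) :
    Function.Injective (MulAut.conjNormal : G →* MulAut L) := by
  rw [injective_iff_map_eq_one]
  intro x hx
  rw [← mem_bot, ← hC, mem_centralizer_iff]
  intro l hl
  have := congrArg (fun φ : MulAut L => ((φ ⟨l, hl⟩ : L) : G)) hx
  simp only [MulAut.conjNormal_apply, MulAut.one_apply] at this
  exact (mul_inv_eq_iff_eq_mul.1 this).symm

end CfsgLib.Recog.CITGraph
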