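import Cfsg.Agent.Lib.Recog.CITGraph.Socle
import Cfsg.Agent.Lib.Recog.CITGraph.Auto
import Cfsg.Agent.Lib.Recog.CITGraph.Arith
import Cfsg.Agent.Lib.Recog.CITGraph.Model
import Cfsg.Agent.Lib.Invol.CIT.Main
import Cfsg.Agent.Lib.Geom.DicksonPSL
import Cfsg.Agent.Lib.Suzuki.Tori
import Cfsg.Agent.Lib.Recog.LThreeFourPlane.Model

/-!
Groups with the prime graph of `PSL(2, 2^m)` or of `Sz(q)`.
-/

set_option autoImplicit false
set_option linter.unusedSectionVars false
set_option linter.style.haveILetI false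
set_option maxHeartbeats 1000000

namespace CfsgLib.Recog.CITGraph

open CfsgLib.Invol CfsgLib.Invol.CIT

universe u v

/-- `A` and `B` have the same prime graph. -/
def SameGraph (A B : Type*) [Group A] [Group B] : Prop :=
  (∀ r : ℕ, r.Prime → (r ∣ Nat.card A ↔ r ∣ Nat.card B)) ∧
    (∀ r s : ℕ, r.Prime → s.Prime → r ≠ s →
      ((∃ x : A, orderOf x = r * s) ↔ (∃ y : B, orderOf y = r * s)))

theorem SameGraph.not_edge {A B : Type*} [Group A] [Group B] (h : SameGraph A B) {r s : ℕ}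
    (hr : r.Prime) (hs : s.Prime) (hne : r ≠ s) (hA : ∀ x : A, orderOf x ≠ r * s) (y : B) :
    orderOf y ≠ r * s := fun hy => by
  obtain ⟨x, hx⟩ := (h.2 r s hr hs hne).2 ⟨y, hy⟩
  exact hA x hx

theorem prime_dvd_two_pow {r j : ℕ} (hr : r.Prime) (h : r ∣ 2 ^ j) : r = 2 :=
  (Nat.prime_dvd_prime_iff_eq hr Nat.prime_two).1 (hr.dvd_of_dvd_pow h)

theorem two_dvd_card_of_simple {L : Type*} [Group L] [Finite L] [IsSimpleGroup L]
    (hna : ∃ a b : L, a * b ≠ b * a) : 2 ∣ Nat.card L := by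
  by_contra hodd
  obtain ⟨a, b, hab⟩ := hna
  exact hab ((IsSimpleGroup.comm_iff_isSolvable.2 (CfsgLib.FT.odd_order_solvable
    (Nat.odd_iff.2 (Nat.two_dvd_ne_zero.1 hodd)))) a b)

section PSL

variable {F : Type v} [Field F] [Fintype F]

local notation "PS" => Matrix.ProjectiveSpecialLinearGroup (Fin 2) F

/-- The prime graph of `PSL(2, 2^m)` determines the quotient by the largest normal 2-subgroup. -/
theorem psl_even_of_graph (m : ℕ) (hm : 4 ≤ m) (hF : Fintype.card F = 2 ^ m) {G : Type u} [Group G]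
    [Finite G] [(Cfsg.pCore 2 G).Normal] (h : SameGraph PS G) :
    Nonempty (G ⧸ Cfsg.pCore 2 G ≃* PS) := by
  have hm1 : 1 ≤ m := by omega
  have hq16 : 16 ≤ 2 ^ m := (Nat.pow_le_pow_right two_pos hm).trans' (by norm_num)
  obtain ⟨c, hc⟩ : 2 ∣ 2 ^ m := dvd_pow_self 2 (by omega)
  have hcard := card_psl_even hm1 hF
  obtain ⟨p0, hp, hp2, hpd, hprim⟩ := exists_primitive_two (n := 2 * m) (by omega) (by omega)
  obtain ⟨r0, hr0, hr0d⟩ := Nat.exists_prime_and_dvd (n := 2 ^ m - 1) (by omega)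
  have hp0m : ¬ p0 ∣ 2 ^ m - 1 := hprim m (by omega) (by omega)
  have hr02 : r0 ≠ 2 := by rintro rfl; omega
  have hr0p : r0 ≠ p0 := by rintro rfl; exact hp0m hr0d
  have hq2 : 2 ^ (2 * m) - 1 = (2 ^ m + 1) * (2 ^ m - 1) := by
    rw [mul_comm 2 m, pow_mul, ← Nat.sq_sub_sq, one_pow]
  -- the missing edges
  have hodd : ∀ {a : ℕ}, 2 * a ∣ 2 ^ m - 1 ∨ 2 * a ∣ 2 ^ m + 1 → False := fun {a} h => by
    rcases h with h | h <;> have := (dvd_mul_right 2 a).trans h <;> omega
  have nG2 : ∀ r : ℕ, r.Prime → r ≠ 2 → ∀ y : G, orderOf y ≠ 2 * r := fun r hr hne =>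
    h.not_edge Nat.prime_two hr hne.symm fun x hx => hodd (edge_psl_even hm1 hF Nat.prime_two hr hx)
  have hsep : ∀ {r p : ℕ}, r.Prime → r ≠ 2 → r ∣ 2 ^ m - 1 → ¬ p ∣ 2 ^ m - 1 →
      ¬ (r * p ∣ 2 ^ m - 1 ∨ r * p ∣ 2 ^ m + 1) := by
    intro r p hr hr2 hrd hpn h
    rcases h with h | h
    · exact hpn ((dvd_mul_left p r).trans h)
    · have h2 := Nat.dvd_sub ((dvd_mul_right r p).trans h) hrd
      rw [show 2 ^ m + 1 - (2 ^ m - 1) = 2 by omega] at h2
      exact hr2 ((Nat.prime_dvd_prime_iff_eq hr Nat.prime_two).1 h2)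
  have hG2 : 2 ∣ Nat.card G :=
    (h.1 2 Nat.prime_two).1 (by rw [hcard]; exact (dvd_pow_self 2 (by omega)).mul_right _)
  have hGp : p0 ∣ Nat.card G := (h.1 p0 hp).1 (by rw [hcard]; exact hpd.mul_left _)
  have hGr : r0 ∣ Nat.card G := (h.1 r0 hr0).1 (by
    rw [hcard, hq2]; exact (hr0d.mul_left _).mul_left _)
  have hcit : IsCIT G := isCIT_of_isolated nG2
  have hns : ¬ Group.IsSolvable G := not_isSolvable_of_spread_three Nat.prime_two hr0 hp hr02.symm hp2.symm
    hr0p hG2 hGr hGp (nG2 r0 hr0 hr02) (nG2 p0 hp hp2)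
    (h.not_edge hr0 hp hr0p fun x hx => hsep hr0 hr02 hr0d hp0m (edge_psl_even hm1 hF hr0 hp hx))
  obtain ⟨hX, L, hLn, hLs, hLna, -⟩ := exists_socle hcit hns
  haveI := hLn
  haveI := hLs
  have hO2 := CfsgLib.Solvable.pCore_isPGroup (G := G) 2
  have hXp : p0 ∣ Nat.card (G ⧸ Cfsg.pCore 2 G) := dvd_card_quotient hO2 hp hp2 hGp
  have hXPS : ∀ {r : ℕ}, r.Prime → r ≠ 2 → r ∣ Nat.card (G ⧸ Cfsg.pCore 2 G) →
      r ∣ 2 ^ (2 * m) - 1 := fun {r} hr hr2 hd => by
    have := (h.1 r hr).2 (hd.trans (Subgroup.card_quotient_dvd_card _))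
    rw [hcard] at this
    exact (hr.dvd_mul.1 this).resolve_left fun e => hr2 (prime_dvd_two_pow hr e)
  have hLX : Nat.card L ∣ Nat.card (G ⧸ Cfsg.pCore 2 G) := Subgroup.card_subgroup_dvd_card L
  have h2L : 2 ∣ Nat.card L := two_dvd_card_of_simple hLna
  have hout : ¬ p0 ∣ Nat.card L → ¬ 2 ^ (2 * m) ∣ Nat.card L → False := fun h1 h3 =>
    false_of_primitive hX L hp hp2 hprim hXp h1 h2L h3
  have hp357 : ¬ p0 ∣ 3 ∧ ¬ p0 ∣ 5 ∧ ¬ p0 ∣ 7 := by
    refine ⟨fun h => ?_, fun h => ?_, fun h => ?_⟩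
    · exact hprim 2 (by omega) (by omega) (by simpa using h)
    · exact hprim 4 (by omega) (by omega) (h.trans (by norm_num))
    · exact hprim 3 (by omega) (by omega) (by simpa using h)
  have hsmallnum : ∀ {N a b c d : ℕ}, Nat.card L = N → N = 2 ^ a * 3 ^ b * 5 ^ c * 7 ^ d →
      N < 2 ^ 15 → ¬ 2 ^ 8 ∣ N → False := by
    intro N a b c d hL hN _ h8
    refine hout ?_ fun h' => h8 (hL ▸ (pow_dvd_pow 2 (show 8 ≤ 2 * m by omega)).trans h')
    rw [hL, hN]
    intro hd
    rcases hp.dvd_mul.1 hd with hd | hd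
    · rcases hp.dvd_mul.1 hd with hd | hd
      · rcases hp.dvd_mul.1 hd with hd | hd
        · exact hp2 (prime_dvd_two_pow hp hd)
        · exact hp357.1 (hp.dvd_of_dvd_pow hd)
      · exact hp357.2.1 (hp.dvd_of_dvd_pow hd)
    · exact hp357.2.2 (hp.dvd_of_dvd_pow hd)
  -- the case of even characteristic
  have heven : ∀ (E : Type) (_ : Field E) (_ : Fintype E) (f : ℕ), Fintype.card E = 2 ^ f →
      Nonempty (L ≃* Matrix.ProjectiveSpecialLinearGroup (Fin 2) E) →
      Nonempty (G ⧸ Cfsg.pCore 2 G ≃* PS) := by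
    intro E _ _ f hE he
    obtain ⟨e⟩ := he
    have hf : 1 ≤ f := by
      rcases Nat.eq_zero_or_pos f with rfl | h0
      · have := Fintype.one_lt_card (α := E)
        rw [hE] at this
        simp at this
      · exact h0
    have htop := eq_top_psl hX L hf hE e
    let eX : G ⧸ Cfsg.pCore 2 G ≃* Matrix.ProjectiveSpecialLinearGroup (Fin 2) E :=
      (Subgroup.topEquiv.symm.trans (MulEquiv.subgroupCongr htop.symm)).trans e
    have hcX : Nat.card (G ⧸ Cfsg.pCore 2 G) = 2 ^ f * (2 ^ (2 * f) - 1) := by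
      rw [Nat.card_congr eX.toEquiv, card_psl_even hf hE]
    have hle : m ≤ f := by
      by_contra hlt
      rw [hcX] at hXp
      exact hprim (2 * f) (by omega) (by omega)
        ((hp.dvd_mul.1 hXp).resolve_left fun e' => hp2 (prime_dvd_two_pow hp e'))
    obtain ⟨s, hs, hs2, hsd, hsprim⟩ := exists_primitive_two (n := 2 * f) (by omega) (by omega)
    have hfm : f ≤ m := by
      by_contra hlt
      exact hsprim (2 * m) (by omega) (by omega) (hXPS hs hs2 (by rw [hcX]; exact hsd.mul_left _))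
    obtain rfl : f = m := le_antisymm hfm hle
    exact ⟨eX.trans (CfsgLib.Geom.Moebius.pslCongr (FiniteField.ringEquivOfCardEq (hE.trans hF.symm)))⟩
  rcases CfsgLib.Invol.CIT.classification hLna (hX.subgroup L) with
    ⟨E, _, _, hE, he⟩ | ⟨E, _, _, hE, ⟨e⟩⟩ | ⟨-, E, _, _, j, hj, hE, ⟨e⟩⟩
  · rcases hE with hE | ⟨f, hE⟩ | ⟨hEp, k, hk⟩
    · obtain ⟨e⟩ := he
      exfalso
      refine hsmallnum (N := 360) (a := 3) (b := 2) (c := 1) (d := 0) ?_ (by norm_num) (by norm_num)
        (by norm_num)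
      rw [Nat.card_congr e.toEquiv, CfsgLib.Classical.card_psl_two_eq hE 360 (by decide)]
    · exact heven E _ _ f hE he
    rcases Nat.eq_zero_or_pos k with rfl | hk0
    · refine heven E inferInstance inferInstance 1 ?_ he
      have := hEp.two_le
      rcases hk with hk | hk <;> simp at hk ⊢ <;> omega
    obtain ⟨e⟩ := he
    exfalso
    obtain ⟨p, hpdef⟩ : ∃ p, Fintype.card E = p := ⟨_, rfl⟩
    rw [hpdef] at hEp hk
    obtain ⟨j, rfl⟩ : ∃ j, k = j + 1 := ⟨k - 1, by omega⟩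
    have hpodd : p ≠ 2 := by
      have := pow_succ 2 j
      rcases hk with hk | hk <;> omega
    have hpG : p ∣ Nat.card L → p ∣ 2 ^ (2 * m) - 1 := fun hd => hXPS hEp hpodd (hd.trans hLX)
    have hcop : Nat.Coprime (2 ^ (2 * m)) p :=
      ((Nat.coprime_primes Nat.prime_two hEp).2 (Ne.symm hpodd)).pow_left _
    rcases hk with hk | hk
    · -- Fermat prime
      have hL : Nat.card L = p * (2 ^ (j + 1) * (2 ^ j + 1)) := by
        rw [Nat.card_congr e.toEquiv]
        refine CfsgLib.Classical.card_psl_two_eq hpdef _ ?_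
        rw [hk, Nat.add_sub_cancel, show Nat.gcd 2 (2 ^ (j + 1)) = 2 from
          Nat.gcd_eq_left (dvd_pow_self 2 (by omega))]
        have : (2 ^ (j + 1) + 1) ^ 2 - 1 = 2 * (2 ^ (j + 1) * (2 ^ j + 1)) :=
          Nat.sub_eq_of_eq_add (by rw [pow_succ]; ring)
        rw [this]; ring
      have hkm : 2 * (j + 1) ∣ 2 * m :=
        dvd_of_fermat (by omega) (hk ▸ hpG (hL ▸ dvd_mul_right _ _))
      have hjm : j + 1 ≤ m := Nat.le_of_dvd (by omega) (Nat.dvd_of_mul_dvd_mul_left two_pos hkm)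
      rcases Nat.lt_or_ge (j + 1) m with hlt | hge
      · refine hout (fun hd => ?_) fun hd => ?_
        · rw [hL] at hd
          rcases hp.dvd_mul.1 hd with h1 | h1
          · exact hprim (2 * (j + 1)) (by omega) (by omega)
              (dvd_two_pow_double (h1.trans (dvd_of_eq hk)))
          rcases hp.dvd_mul.1 h1 with h1 | h1
          · exact hp2 (prime_dvd_two_pow hp h1)
          rcases Nat.eq_zero_or_pos j with rfl | hj0
          · exact hp2 ((Nat.prime_dvd_prime_iff_eq hp Nat.prime_two).1 (by simpa using h1))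
          · exact hprim (2 * j) (by omega) (by omega) (dvd_two_pow_double h1)
        · rw [hL] at hd
          have h1 := Nat.le_of_dvd (by positivity) (hcop.dvd_of_dvd_mul_left hd)
          have h2 : 2 ^ (j + 1) * (2 ^ j + 1) ≤ 2 ^ (j + 1) * 2 ^ (j + 1) :=
            Nat.mul_le_mul_left _ (by have := Nat.one_le_two_pow (n := j); rw [pow_succ]; omega)
          rw [← pow_add] at h2
          have h3 : 2 ^ (j + 1 + (j + 1)) < 2 ^ (2 * m) :=
            (Nat.pow_lt_pow_iff_right (show 1 < 2 by omega)).2 (by omega)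
          omega
      · obtain rfl : j + 1 = m := le_antisymm hjm hge
        have h6 : j + 1 ≠ 6 := by
          intro e6
          rw [e6] at hk
          exact absurd hEp (by rw [hk]; norm_num)
        obtain ⟨r, hr, hr2, hrd, hrprim⟩ := exists_primitive_two (n := j + 1) (by omega) h6
        have hp_succ := pow_succ 2 j
        have hrlt : r < p := by
          have := Nat.le_of_dvd (by omega) hrd
          omega
        have hr3 : r ≠ 3 := fun e3 => hrprim 2 (by omega) (by omega) (by rw [e3]; norm_num)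
        have hrc : ¬ r ∣ 2 ^ j + 1 := fun hd => by
          have h3 := Nat.dvd_sub (hd.mul_left 2) hrd
          rw [show 2 * (2 ^ j + 1) - (2 ^ (j + 1) - 1) = 3 by omega] at h3
          exact hr3 ((Nat.prime_dvd_prime_iff_eq hr Nat.prime_three).1 h3)
        have hrL : ¬ r ∣ Nat.card L := by
          rw [hL]
          intro hd
          rcases hr.dvd_mul.1 hd with h1 | h1
          · exact hrlt.ne ((Nat.prime_dvd_prime_iff_eq hr hEp).1 h1)
          rcases hr.dvd_mul.1 h1 with h1 | h1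
          · exact hr2 (prime_dvd_two_pow hr h1)
          · exact hrc h1
        have hrp : ¬ r ∣ p - 1 := by
          rw [hk, Nat.add_sub_cancel]
          exact fun h1 => hr2 (prime_dvd_two_pow hr h1)
        have hpp : ¬ p ^ 2 ∣ Nat.card L := by
          rw [hL, pow_two]
          intro hd
          rcases hEp.dvd_mul.1 (Nat.dvd_of_mul_dvd_mul_left hEp.pos hd) with h1 | h1
          · exact hpodd (prime_dvd_two_pow hEp h1)
          · have := Nat.le_of_dvd (by positivity) h1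
            omega
        have hrX : r ∣ Nat.card (G ⧸ Cfsg.pCore 2 G) :=
          dvd_card_quotient hO2 hr hr2 ((h.1 r hr).1 (by
            rw [hcard, hq2]; exact (hrd.mul_left _).mul_left _))
        obtain ⟨z, hz⟩ := exists_edge_outside L hEp hr hrp (hL ▸ dvd_mul_right _ _) hpp hrX hrL
        obtain ⟨y, hy⟩ := exists_orderOf_lift (Cfsg.pCore 2 G) ⟨z, hz⟩
        refine h.not_edge hr hEp hrlt.ne (fun x hx => hsep hr hr2 hrd (fun h1 => ?_)
          (edge_psl_even hm1 hF hr hEp hx)) y hy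
        have := Nat.le_of_dvd (by omega) h1
        omega
    · -- Mersenne prime
      rcases Nat.eq_zero_or_pos j with rfl | hj0
      · simp at hk
        exact hEp.ne_one hk
      have hp_succ := pow_succ 2 j
      have hL : Nat.card L = p * (2 ^ (j + 1) * (2 ^ j - 1)) := by
        rw [Nat.card_congr e.toEquiv]
        refine CfsgLib.Classical.card_psl_two_eq hpdef _ ?_
        obtain ⟨t, ht⟩ : ∃ t, 2 ^ j = t + 1 := ⟨2 ^ j - 1, by omega⟩
        have hpt : p = 2 * t + 1 := by omega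
        rw [hpt, Nat.add_sub_cancel, show Nat.gcd 2 (2 * t) = 2 from Nat.gcd_eq_left (dvd_mul_right _ _),
          pow_succ 2 j, ht, Nat.add_sub_cancel,
          show (2 * t + 1) ^ 2 - 1 = 2 * ((t + 1) * 2 * t) from Nat.sub_eq_of_eq_add (by ring)]
        ring
      have hkm : j + 1 ∣ 2 * m := dvd_of_mersenne (by omega)
        ((show 2 ^ (j + 1) - 1 = p by omega) ▸ hpG (hL ▸ dvd_mul_right _ _))
      have hne : j + 1 ≠ 2 * m := fun e2 => by
        have he : p = (2 ^ m + 1) * (2 ^ m - 1) := by rw [← hq2, ← e2]; omega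
        exact Nat.not_prime_mul (by omega) (by omega) (he ▸ hEp)
      have hjm : j + 1 ≤ m := by
        obtain ⟨t, ht⟩ := hkm
        rcases t with _ | _ | t
        · omega
        · simp only [zero_add, mul_one] at ht; exact absurd ht.symm hne
        · have : (j + 1) * 2 ≤ (j + 1) * (t + 1 + 1) := Nat.mul_le_mul_left _ (by omega)
          omega
      refine hout (fun hd => ?_) fun hd => ?_
      · rw [hL] at hd
        rcases hp.dvd_mul.1 hd with h1 | h1
        · exact hprim (j + 1) (by omega) (by omega) (h1.trans (dvd_of_eq (by omega)))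
        rcases hp.dvd_mul.1 h1 with h1 | h1
        · exact hp2 (prime_dvd_two_pow hp h1)
        · exact hprim j hj0 (by omega) h1
      · rw [hL] at hd
        have h2j : 2 ≤ 2 ^ j := le_self_pow₀ (by omega) (by omega)
        have h1 := Nat.le_of_dvd (Nat.mul_pos (by positivity) (by omega)) (hcop.dvd_of_dvd_mul_left hd)
        have h2 : 2 ^ (j + 1) * (2 ^ j - 1) < 2 ^ (j + 1) * 2 ^ j :=
          Nat.mul_lt_mul_of_pos_left (by omega) (by positivity)
        rw [← pow_add] at h2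
        have h3 : 2 ^ (j + 1 + j) ≤ 2 ^ (2 * m) := Nat.pow_le_pow_right two_pos (by omega)
        omega
  · exfalso
    refine hsmallnum (N := 20160) (a := 6) (b := 2) (c := 1) (d := 1) ?_ (by norm_num) (by norm_num)
      (by norm_num)
    rw [Nat.card_congr e.toEquiv, CfsgLib.Recog.LThreeFour.card_psl_three_four hE]
  · exfalso
    haveI := Fact.mk Nat.prime_two
    haveI : CharP E 2 := charP_of_card_eq_prime_pow hE
    have e' : L ≃* Cfsg.Sz E j := e.trans (CfsgLib.Suzuki.szEquiv hj hE).symm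
    have htop := eq_top_sz hX L hj hE e'
    have h3 : 3 ∣ Nat.card G := (h.1 3 Nat.prime_three).1 (by
      rw [hcard]
      refine Dvd.dvd.mul_left ?_ _
      rw [pow_mul]
      exact Nat.sub_one_dvd_pow_sub_one (2 ^ 2) m)
    have := dvd_card_quotient hO2 Nat.prime_three (by norm_num) h3
    rw [← Subgroup.card_top (G := G ⧸ Cfsg.pCore 2 G), ← htop, Nat.card_congr e'.toEquiv] at this
    exact CfsgLib.Suzuki.not_three_dvd_card hj hE this

end PSL

section Suzuki

variable {F : Type v} [Field F] [Fintype F]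

theorem three_dvd_card_psl_two {E : Type*} [Field E] [Fintype E] :
    3 ∣ Nat.card (Matrix.ProjectiveSpecialLinearGroup (Fin 2) E) := by
  have h := CfsgLib.Classical.card_psl_two_mul (F := E)
  have h3 : 3 ∣ Fintype.card E * (Fintype.card E ^ 2 - 1) := by
    by_cases hq : 3 ∣ Fintype.card E
    · exact hq.mul_right _
    · refine Dvd.dvd.mul_left ?_ _
      refine (Nat.modEq_iff_dvd' (Nat.one_le_pow _ _ Fintype.card_pos)).1 ?_
      unfold Nat.ModEq
      rw [Nat.pow_mod]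
      rcases (show Fintype.card E % 3 = 1 ∨ Fintype.card E % 3 = 2 by omega) with e | e <;>
        rw [e]
  rw [← h] at h3
  refine (Nat.prime_three.dvd_mul.1 h3).resolve_left fun h3 => ?_
  have := Nat.le_of_dvd two_pos (h3.trans (Nat.gcd_dvd_left 2 _))
  omega

/-- The prime graph of a Suzuki group determines the quotient by the largest normal 2-subgroup. -/
theorem sz_of_graph (m : ℕ) (hm : 1 ≤ m) (hF : Fintype.card F = 2 ^ (2 * m + 1)) {G : Type u}
    [Group G] [Finite G] [(Cfsg.pCore 2 G).Normal]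
    (h : SameGraph ↥(Cfsg.Lie.Sz F (2 ^ (m + 1))) G) :
    Nonempty (G ⧸ Cfsg.pCore 2 G ≃* ↥(Cfsg.Lie.Sz F (2 ^ (m + 1)))) := by
  haveI := Fact.mk Nat.prime_two
  haveI : CharP F 2 := charP_of_card_eq_prime_pow hF
  let eS := CfsgLib.Suzuki.szEquiv hm hF
  obtain ⟨n, hn⟩ : ∃ n, n = 2 * m + 1 := ⟨_, rfl⟩
  rw [← hn] at hF
  have hF' : Fintype.card F = 2 ^ (2 * m + 1) := hn ▸ hF
  have hcard : Nat.card ↥(Cfsg.Lie.Sz F (2 ^ (m + 1))) =
      2 ^ (2 * n) * (2 ^ n - 1) * (2 ^ (2 * n) + 1) := by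
    rw [← Nat.card_congr eS.toEquiv, CfsgLib.Suzuki.card_sz hm hF', hF, ← pow_mul, mul_comm n 2]
  have hq8 : 8 ≤ 2 ^ n := (Nat.pow_le_pow_right two_pos (show 3 ≤ n by omega)).trans' (by norm_num)
  obtain ⟨c, hc⟩ : 2 ∣ 2 ^ n := dvd_pow_self 2 (by omega)
  obtain ⟨p0, hp, hp2, hpd, hprim⟩ := exists_primitive_two (n := 4 * n) (by omega) (by omega)
  obtain ⟨r0, hr0, hr0d⟩ := Nat.exists_prime_and_dvd (n := 2 ^ n - 1) (by omega)
  have hpn : ¬ p0 ∣ 2 ^ n - 1 := hprim n (by omega) (by omega)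
  have hpp : p0 ∣ 2 ^ (2 * n) + 1 := by
    have e4 : 2 ^ (4 * n) - 1 = (2 ^ (2 * n) + 1) * (2 ^ (2 * n) - 1) := by
      rw [show 4 * n = 2 * n * 2 by ring, pow_mul, ← Nat.sq_sub_sq, one_pow]
    rw [e4] at hpd
    exact (hp.dvd_mul.1 hpd).resolve_right (hprim (2 * n) (by omega) (by omega))
  have hr02 : r0 ≠ 2 := by rintro rfl; omega
  have hr0p : r0 ≠ p0 := by rintro rfl; exact hpn hr0d
  have hr0n : ¬ r0 ∣ 2 ^ (2 * n) + 1 := fun hd => by
    have h1 : r0 ∣ 2 ^ (2 * n) - 1 := by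
      rw [mul_comm 2 n, pow_mul]
      exact hr0d.trans (Nat.sub_one_dvd_pow_sub_one _ _)
    have h2 := Nat.dvd_sub hd h1
    have := Nat.one_le_two_pow (n := 2 * n)
    rw [show 2 ^ (2 * n) + 1 - (2 ^ (2 * n) - 1) = 2 by omega] at h2
    exact hr02 ((Nat.prime_dvd_prime_iff_eq hr0 Nat.prime_two).1 h2)
  have nG2 : ∀ r : ℕ, r.Prime → r ≠ 2 → ∀ y : G, orderOf y ≠ 2 * r := fun r hr hne =>
    h.not_edge Nat.prime_two hr hne.symm fun x hx =>
      not_edge_two_sz hm hF' hr hne (eS.symm x) (by rw [MulEquiv.orderOf_eq, hx])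
  have hG2 : 2 ∣ Nat.card G := (h.1 2 Nat.prime_two).1 (by
    rw [hcard]; exact ((dvd_pow_self 2 (by omega)).mul_right _).mul_right _)
  have hGp : p0 ∣ Nat.card G := (h.1 p0 hp).1 (by rw [hcard]; exact hpp.mul_left _)
  have hGr : r0 ∣ Nat.card G := (h.1 r0 hr0).1 (by
    rw [hcard]; exact (hr0d.mul_left _).mul_right _)
  have hcit : IsCIT G := isCIT_of_isolated nG2
  have hns : ¬ Group.IsSolvable G := not_isSolvable_of_spread_three Nat.prime_two hr0 hp hr02.symm hp2.symm
    hr0p hG2 hGr hGp (nG2 r0 hr0 hr02) (nG2 p0 hp hp2)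
    (h.not_edge hr0 hp hr0p fun x hx =>
      not_edge_tori_sz hm hF' hr0 hp (by rw [hF]; exact hr0d)
        (by rw [hF, ← pow_mul]; exact fun e => hr02 (prime_dvd_two_pow hr0 e))
        (by rw [hF, ← pow_mul, mul_comm n 2]; exact hr0n) (by rw [hF]; exact hpn) (eS.symm x)
        (by rw [MulEquiv.orderOf_eq, hx]))
  obtain ⟨hX, L, hLn, hLs, hLna, -⟩ := exists_socle hcit hns
  haveI := hLn
  haveI := hLs
  have hO2 := CfsgLib.Solvable.pCore_isPGroup (G := G) 2
  have h3G : ¬ 3 ∣ Nat.card G := fun h3 => CfsgLib.Suzuki.not_three_dvd_card hm hF' (by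
    rw [Nat.card_congr eS.toEquiv]; exact (h.1 3 Nat.prime_three).2 h3)
  have h3L : ¬ 3 ∣ Nat.card L := fun h3 =>
    h3G (h3.trans ((Subgroup.card_subgroup_dvd_card L).trans (Subgroup.card_quotient_dvd_card _)))
  rcases CfsgLib.Invol.CIT.classification hLna (hX.subgroup L) with
    ⟨E, _, _, -, ⟨e⟩⟩ | ⟨E, _, _, hE, ⟨e⟩⟩ | ⟨-, E, _, _, j, hj, hE, ⟨e⟩⟩
  · exact absurd (by rw [Nat.card_congr e.toEquiv]; exact three_dvd_card_psl_two) h3L
  · exact absurd (by
      rw [Nat.card_congr e.toEquiv, CfsgLib.Recog.LThreeFour.card_psl_three_four hE]; norm_num) h3L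
  · haveI : CharP E 2 := charP_of_card_eq_prime_pow hE
    have e' : L ≃* Cfsg.Sz E j := e.trans (CfsgLib.Suzuki.szEquiv hj hE).symm
    have htop := eq_top_sz hX L hj hE e'
    obtain ⟨n', hn'⟩ : ∃ n', n' = 2 * j + 1 := ⟨_, rfl⟩
    have hcX : Nat.card (G ⧸ Cfsg.pCore 2 G) = 2 ^ (2 * n') * (2 ^ n' - 1) * (2 ^ (2 * n') + 1) := by
      rw [← Subgroup.card_top (G := G ⧸ Cfsg.pCore 2 G), ← htop, Nat.card_congr e'.toEquiv,
        CfsgLib.Suzuki.card_sz hj hE, hE, ← hn', ← pow_mul, mul_comm n' 2]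
    have hdiv : ∀ {r a : ℕ}, r.Prime → r ≠ 2 → r ∣ 2 ^ (2 * a) * (2 ^ a - 1) * (2 ^ (2 * a) + 1) →
        r ∣ 2 ^ (4 * a) - 1 := by
      intro r a hr hr2 hd
      rcases hr.dvd_mul.1 hd with h1 | h1
      · rcases hr.dvd_mul.1 h1 with h1 | h1
        · exact absurd (prime_dvd_two_pow hr h1) hr2
        · rw [mul_comm 4 a, pow_mul]
          exact h1.trans (Nat.sub_one_dvd_pow_sub_one _ _)
      · rw [show 4 * a = 2 * (2 * a) by ring]
        exact dvd_two_pow_double h1
    have hle : n ≤ n' := by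
      by_contra hlt
      have := hdiv hp hp2 (hcX ▸ dvd_card_quotient hO2 hp hp2 hGp)
      exact hprim (4 * n') (by omega) (by omega) this
    obtain ⟨s, hs, hs2, hsd, hsprim⟩ := exists_primitive_two (n := 4 * n') (by omega) (by omega)
    have hge : n' ≤ n := by
      by_contra hlt
      have hsX : s ∣ Nat.card (G ⧸ Cfsg.pCore 2 G) := by
        rw [hcX]
        have e4 : 2 ^ (4 * n') - 1 = (2 ^ (2 * n') + 1) * (2 ^ (2 * n') - 1) := by
          rw [show 4 * n' = 2 * n' * 2 by ring, pow_mul, ← Nat.sq_sub_sq, one_pow]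
        rw [e4] at hsd
        exact ((hs.dvd_mul.1 hsd).resolve_right (hsprim (2 * n') (by omega) (by omega))).mul_left _
      have := (h.1 s hs).2 (hsX.trans (Subgroup.card_quotient_dvd_card _))
      rw [hcard] at this
      exact hsprim (4 * n) (by omega) (by omega) (hdiv hs hs2 this)
    obtain rfl : j = m := by omega
    exact ⟨((Subgroup.topEquiv.symm.trans (MulEquiv.subgroupCongr htop.symm)).trans e).trans
      (szCongrEquiv (FiniteField.ringEquivOfCardEq (hE.trans hF'.symm)) _)⟩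

end Suzuki

end CfsgLib.Recog.CITGraph
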