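import Cfsg.Agent.Lib.Invol.CIT.Basic
import Cfsg.Agent.Lib.Invol.BrauerSuzuki
import Cfsg.Agent.Lib.FT.OddOrder
import Cfsg.Agent.Lib.Solvable.PCore
import Cfsg.Agent.Lib.Solvable.MinNormal
import Cfsg.Agent.Lib.Recog.Conjugates
import Cfsg.Agent.Lib.Recog.ThreePrimes

/-!
A non-solvable group with 2-group involution centralisers is, modulo its largest normal 2-subgroup,
almost simple.
-/

set_option autoImplicit false
set_option linter.unusedSectionVars false
set_option linter.style.haveILetI false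

namespace CfsgLib.Recog.CITGraph

open Subgroup CfsgLib.Invol CfsgLib.Invol.CIT

universe u

variable {G : Type u} [Group G] [Finite G]

/-- An isolated vertex two in the prime graph makes all involution centralisers 2-groups. -/
theorem isCIT_of_isolated
    (h : ∀ r : ℕ, r.Prime → r ≠ 2 → ∀ x : G, orderOf x ≠ 2 * r) : IsCIT G := by
  intro t ht
  rw [IsPGroup.iff_orderOf]
  intro c
  refine ⟨(orderOf c).primeFactorsList.length,
    Nat.eq_prime_pow_of_unique_prime_dvd (orderOf_pos c).ne' fun {r} hr hrd => ?_⟩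
  by_contra hne
  obtain ⟨x, hx⟩ := exists_orderOf_prime_mul
    (show Commute t (c : G) from (mem_centralizer_singleton_iff.1 c.2).symm) Nat.prime_two hr
    (fun e => hne e.symm) (dvd_of_eq ht.symm) (by rwa [Subgroup.orderOf_coe])
  exact h r hr hne x hx

/-- Three pairwise non-adjacent primes prevent solvability. -/
theorem not_isSolvable_of_spread_three {a b c : ℕ} (ha : a.Prime) (hb : b.Prime) (hc : c.Prime)
    (hab : a ≠ b) (hac : a ≠ c) (hbc : b ≠ c) (haG : a ∣ Nat.card G) (hbG : b ∣ Nat.card G)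
    (hcG : c ∣ Nat.card G) (nab : ∀ x : G, orderOf x ≠ a * b) (nac : ∀ x : G, orderOf x ≠ a * c)
    (nbc : ∀ x : G, orderOf x ≠ b * c) : ¬ Group.IsSolvable G := by
  intro hs
  have hT : Group.IsSolvable (⊤ : Subgroup G) :=
    Group.isSolvable_of_isSolvable_injective (f := (⊤ : Subgroup G).subtype) Subtype.coe_injective
  rcases solvable_edge ⊤ hT ha hb hc hab hac hbc (by rwa [Subgroup.card_top])
    (by rwa [Subgroup.card_top]) hcG with ⟨x, hx⟩ | ⟨x, hx⟩ | ⟨x, hx⟩
  exacts [nab x hx, nac x hx, nbc x hx]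

/-- A non-solvable such group has no non-trivial normal subgroup of odd order. -/
theorem oddCore_eq_bot (hcit : IsCIT G) (hns : ¬ Group.IsSolvable G) : Cfsg.oddCore G = ⊥ := by
  by_contra hne
  haveI hO : (Cfsg.oddCore G).Normal := CfsgLib.Solvable.pPrimeCore_normal 2 G
  obtain ⟨z, hz⟩ : ∃ z : G, orderOf z = 2 := by
    haveI := Fact.mk Nat.prime_two
    refine exists_prime_orderOf_dvd_card' 2 ?_
    by_contra hodd
    exact hns (CfsgLib.FT.odd_order_solvable (Nat.odd_iff.2 (Nat.two_dvd_ne_zero.1 hodd)))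
  have hiso : Cfsg.IsIsolatedInvolution z := ⟨hz, fun g hg =>
    (hcit.invol_eq_of_odd_normal hne (odd_card_oddCore G) hz (by rw [orderOf_conj_eq, hz]) hg).symm⟩
  -- the centraliser of `z` covers the quotient by the odd core
  have hcov : ∀ g : G, ∃ k ∈ Cfsg.oddCore G, k * g ∈ centralizer ({z} : Set G) := by
    intro g
    have hmem : g * z * g⁻¹ * z ∈ Cfsg.oddCore G := by
      have := hO.conj_mem _ (inv_mem (zstar G hiso g)) 1
      simpa [mul_assoc, invol_inv hz] using this
    have hz' : orderOf (g * z * g⁻¹) = 2 := by rw [orderOf_conj_eq, hz]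
    obtain ⟨d, hd, hd'⟩ := exists_conj_of_odd hz' hz
      ((odd_card_oddCore G).of_dvd_nat (Subgroup.orderOf_dvd_natCard _ hmem))
    refine ⟨d, (zpowers_le.2 hmem) hd, mem_centralizer_singleton_iff.2 ?_⟩
    rw [← mul_inv_eq_iff_eq_mul]
    calc d * g * z * (d * g)⁻¹ = d * (g * z * g⁻¹) * d⁻¹ := by group
      _ = z := hd'
  refine hns ?_
  haveI : Group.IsSolvable (Cfsg.oddCore G) := CfsgLib.FT.odd_order_solvable (odd_card_oddCore G)
  haveI : Group.IsSolvable (centralizer ({z} : Set G)) := by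
    haveI := Fact.mk Nat.prime_two
    haveI := (hcit z hz).isNilpotent
    infer_instance
  haveI : Group.IsSolvable (G ⧸ Cfsg.oddCore G) := by
    refine Group.isSolvable_of_surjective
      (f := (QuotientGroup.mk' (Cfsg.oddCore G)).comp (centralizer ({z} : Set G)).subtype) fun q => ?_
    obtain ⟨g, rfl⟩ := QuotientGroup.mk'_surjective _ q
    obtain ⟨k, hk, hkg⟩ := hcov g
    refine ⟨⟨k * g, hkg⟩, ?_⟩
    show QuotientGroup.mk' _ (k * g) = QuotientGroup.mk' _ g
    rw [map_mul, QuotientGroup.mk'_apply _ k, (QuotientGroup.eq_one_iff k).2 hk, one_mul]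
  exact Group.isSolvable_of_ker_le_range (Cfsg.oddCore G).subtype (QuotientGroup.mk' (Cfsg.oddCore G))
    (by rw [QuotientGroup.ker_mk', Subgroup.range_subtype])

/-- A non-abelian simple subgroup has trivial centraliser. -/
theorem centralizer_eq_bot (hcit : IsCIT G) {T : Subgroup G} (hT : IsSimpleGroup T)
    (hna : ¬ IsMulCommutative T) : centralizer (T : Set G) = ⊥ := by
  haveI := hT
  haveI := Fact.mk Nat.prime_two
  rw [Subgroup.eq_bot_iff_forall]
  intro c hc
  by_contra hc1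
  obtain ⟨a, ha⟩ : ∃ a : T, orderOf a = 2 := by
    refine exists_prime_orderOf_dvd_card' 2 ?_
    by_contra hodd
    exact hna ⟨⟨IsSimpleGroup.comm_iff_isSolvable.2 (CfsgLib.FT.odd_order_solvable
      (Nat.odd_iff.2 (Nat.two_dvd_ne_zero.1 hodd)))⟩⟩
  rw [← Subgroup.orderOf_coe] at ha
  have hc2 : ∃ k, c ^ 2 ^ k = 1 := hcit.two_pow_of_commute
    ⟨1, by rw [pow_one, pow_two, invol_mul_self ha]⟩ (invol_ne_one ha)
    ((mem_centralizer_iff.1 hc a a.2).symm : Commute c (a : G))
  have hTp : IsPGroup 2 T := fun x => by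
    obtain ⟨k, hk⟩ := hcit.two_pow_of_commute hc2 hc1 (mem_centralizer_iff.1 hc x x.2 : Commute (x : G) c)
    exact ⟨k, Subtype.ext (by simpa using hk)⟩
  haveI := hTp.isNilpotent
  exact hna ⟨⟨IsSimpleGroup.comm_iff_isSolvable.2 inferInstance⟩⟩

/-- Elements of order a product of two odd primes lift through a quotient. -/
theorem exists_orderOf_lift (N : Subgroup G) [N.Normal] {k : ℕ} (h : ∃ x : G ⧸ N, orderOf x = k) :
    ∃ y : G, orderOf y = k := by
  obtain ⟨x, rfl⟩ := h
  obtain ⟨g, rfl⟩ := QuotientGroup.mk'_surjective N x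
  exact ⟨g ^ (orderOf g / orderOf (QuotientGroup.mk' N g)),
    orderOf_pow_orderOf_div (orderOf_pos g).ne' (orderOf_map_dvd _ g)⟩

/-- An odd prime dividing the group order divides that of the quotient by a 2-subgroup. -/
theorem dvd_card_quotient {N : Subgroup G} [N.Normal] (hN : IsPGroup 2 N) {r : ℕ} (hr : r.Prime)
    (hr2 : r ≠ 2) (hd : r ∣ Nat.card G) : r ∣ Nat.card (G ⧸ N) := by
  haveI := Fact.mk Nat.prime_two
  rw [← Subgroup.index_eq_card]
  rw [← N.card_mul_index] at hd
  refine (hr.dvd_mul.1 hd).resolve_left fun h => hr2 ?_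
  obtain ⟨k, hk⟩ := IsPGroup.iff_card.1 hN
  exact (Nat.prime_dvd_prime_iff_eq hr Nat.prime_two).1 (hr.dvd_of_dvd_pow (hk ▸ h))

/-- The socle modulo the largest normal 2-subgroup. -/
theorem exists_socle (hcit : IsCIT G) (hns : ¬ Group.IsSolvable G) [(Cfsg.pCore 2 G).Normal] :
    IsCIT (G ⧸ Cfsg.pCore 2 G) ∧ ∃ L : Subgroup (G ⧸ Cfsg.pCore 2 G), L.Normal ∧ IsSimpleGroup L ∧
      (∃ a b : L, a * b ≠ b * a) ∧ centralizer (L : Set (G ⧸ Cfsg.pCore 2 G)) = ⊥ := by
  haveI := Fact.mk Nat.prime_two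
  have hO2 := CfsgLib.Solvable.pCore_isPGroup (G := G) 2
  have hX : IsCIT (G ⧸ Cfsg.pCore 2 G) := hcit.quotient _ hO2
  have hnsX : ¬ Group.IsSolvable (G ⧸ Cfsg.pCore 2 G) := fun hs => hns <| by
    haveI := hs
    haveI := hO2.isNilpotent
    exact Group.isSolvable_of_ker_le_range (Cfsg.pCore 2 G).subtype (QuotientGroup.mk' (Cfsg.pCore 2 G))
      (by rw [QuotientGroup.ker_mk', Subgroup.range_subtype])
  refine ⟨hX, ?_⟩
  haveI : Nontrivial (G ⧸ Cfsg.pCore 2 G) := by
    by_contra hh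
    rw [not_nontrivial_iff_subsingleton] at hh
    exact hnsX inferInstance
  obtain ⟨M, hMn, hMne, hmin⟩ := CfsgLib.Solvable.exists_minimal_normal (G := G ⧸ Cfsg.pCore 2 G)
  haveI := hMn
  have hMab : ¬ IsMulCommutative M := by
    intro hc
    haveI : Group.IsSolvable M := Group.isSolvable_of_comm fun a b => hc.is_comm.comm a b
    obtain ⟨p, hp, hV, -, -⟩ := CfsgLib.Solvable.exists_isPGroup_of_minimal_normal hMne hmin
    by_cases hp2 : p = 2
    · subst hp2
      exact hMne (le_bot_iff.1 ((CfsgLib.Solvable.pCore_quotient_eq_bot (G := G) 2).le.trans'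
        (CfsgLib.Solvable.le_pCore hMn hV)))
    · haveI := Fact.mk hp
      obtain ⟨k, hk⟩ := IsPGroup.iff_card.1 hV
      exact hMne (le_bot_iff.1 ((oddCore_eq_bot hX hnsX).le.trans'
        (le_oddCore hMn (by rw [hk]; exact (hp.odd_of_ne_two hp2).pow))))
  obtain ⟨T, hT⟩ := exists_isFactor hMn hMne hmin hMab
  have hCT := centralizer_eq_bot hX hT.simple hT.nonabelian
  have hcj : ∀ g, cj g T = T := fun g => (hT.eq_or_le_centralizer g).resolve_right fun hle => by
    rw [hCT, le_bot_iff] at hle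
    refine hT.ne_bot (Subgroup.card_eq_one.1 ?_)
    rw [← natCard_cj g T, hle, Subgroup.card_bot]
  have hTM : T = M := le_antisymm hT.le (hT.iSup_eq ▸ iSup_le fun g => (hcj g).le)
  subst hTM
  refine ⟨T, hMn, hT.simple, ?_, hCT⟩
  by_contra hcon
  push Not at hcon
  exact hMab ⟨⟨hcon⟩⟩

end CfsgLib.Recog.CITGraph
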